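/-
Joint eigenspaces of one-parameter groups, with the projections obtained by successive splitting.
-/
import Cfsg.Agent.Lib.Lie.ReeRepBasic

set_option autoImplicit false

namespace Cfsg.Agent.MinDegreeG2

open LinearMap Module

variable {F G W : Type*} [Field F] [Group G] [AddCommGroup W] [Module ℂ W]

/-- a representation with one-parameter groups and an additive character of the field -/
structure Ctx (F G W : Type*) [Field F] [Group G] [AddCommGroup W] [Module ℂ W] where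
  f : G →* Module.End ℂ W
  x : ℕ → AddChar F G
  ψ : AddChar F ℂ
  hψ : ψ.IsPrimitive

namespace Ctx

variable (C : Ctx F G W)

/-- the joint eigenspace of a list of roots and scalars -/
def Eg (L : List (ℕ × F)) : Submodule ℂ W where
  carrier := {w | ∀ p ∈ L, ∀ t, C.f (C.x p.1 t) w = C.ψ (p.2 * t) • w}
  add_mem' := fun {v w} hv hw p hp t => by rw [map_add, hv p hp t, hw p hp t, smul_add]
  zero_mem' := fun p _ t => by rw [map_zero, smul_zero]
  smul_mem' := fun c w hw p hp t => by rw [map_smul, hw p hp t, smul_comm]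

theorem mem_Eg {L : List (ℕ × F)} {w : W} :
    w ∈ C.Eg L ↔ ∀ p ∈ L, ∀ t, C.f (C.x p.1 t) w = C.ψ (p.2 * t) • w := Iff.rfl

theorem mem_cons {r : ℕ} {s : F} {L : List (ℕ × F)} {w : W} :
    w ∈ C.Eg ((r, s) :: L) ↔ (∀ t, C.f (C.x r t) w = C.ψ (s * t) • w) ∧ w ∈ C.Eg L := by
  simp only [mem_Eg, List.forall_mem_cons]

theorem ev {L : List (ℕ × F)} {w : W} (hw : w ∈ C.Eg L) {r : ℕ} {s : F} (h : (r, s) ∈ L) (t : F) :
    C.f (C.x r t) w = C.ψ (s * t) • w := hw (r, s) h t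

theorem Eg_mono {L L' : List (ℕ × F)} (h : L' ⊆ L) : C.Eg L ≤ C.Eg L' := fun _ hw p hp => hw p (h hp)

/-- the dimension of the eigenspace -/
noncomputable def D (L : List (ℕ × F)) : ℕ := finrank ℂ (C.Eg L)

theorem D_congr {L L' : List (ℕ × F)} (h : L ⊆ L') (h' : L' ⊆ L) : C.D L = C.D L' := by
  rw [D, D, le_antisymm (C.Eg_mono h') (C.Eg_mono h)]

theorem D_nil : C.D [] = finrank ℂ W := by
  have : C.Eg [] = ⊤ := eq_top_iff.2 fun w _ p hp => absurd hp (List.not_mem_nil)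
  rw [D, this, finrank_top]

/-! ### moving eigenspaces -/

theorem f_inv_mul (g : G) (w : W) : C.f g⁻¹ (C.f g w) = w := by
  rw [← Module.End.mul_apply, ← map_mul, inv_mul_cancel, map_one, Module.End.one_apply]

theorem f_mul (g h : G) (w : W) : C.f (g * h) w = C.f g (C.f h w) := by rw [map_mul, Module.End.mul_apply]

theorem maps {L L' : List (ℕ × F)} (g : G)
    (h : ∀ w ∈ C.Eg L, ∀ p ∈ L', ∀ t, C.f (g⁻¹ * C.x p.1 t * g) w = C.ψ (p.2 * t) • w) {w : W}
    (hw : w ∈ C.Eg L) : C.f g w ∈ C.Eg L' := fun p hp t => by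
  rw [← f_mul, show C.x p.1 t * g = g * (g⁻¹ * C.x p.1 t * g) by group, f_mul, h w hw p hp t, map_smul]

variable [FiniteDimensional ℂ W]

theorem D_le_of_maps {L L' : List (ℕ × F)} (g : G) (h : ∀ w ∈ C.Eg L, C.f g w ∈ C.Eg L') :
    C.D L ≤ C.D L' :=
  LinearMap.finrank_le_finrank_of_injective
    (f := ((C.f g).comp (C.Eg L).subtype).codRestrict (C.Eg L') fun w => h w.1 w.2)
    fun v w e => Subtype.ext (by
      have h1 : C.f g v.1 = C.f g w.1 := congrArg Subtype.val e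
      rw [← C.f_inv_mul g v.1, h1, C.f_inv_mul])

theorem D_eq_zero_iff {L : List (ℕ × F)} : C.D L = 0 ↔ ∀ w ∈ C.Eg L, w = 0 := by
  rw [D, Submodule.finrank_eq_zero, Submodule.eq_bot_iff]

theorem exists_ne_zero {L : List (ℕ × F)} (h : C.D L ≠ 0) : ∃ w ∈ C.Eg L, w ≠ 0 := by
  by_contra hc
  push Not at hc
  exact h (C.D_eq_zero_iff.2 hc)

omit [FiniteDimensional ℂ W] in
theorem exists_smul {L : List (ℕ × F)} (h : C.D L = 1) {v w : W} (hv : v ∈ C.Eg L) (hv0 : v ≠ 0)
    (hw : w ∈ C.Eg L) : ∃ c : ℂ, w = c • v := by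
  obtain ⟨c, hc⟩ := (finrank_eq_one_iff_of_nonzero' (⟨v, hv⟩ : C.Eg L)
    (fun e => hv0 (congrArg Subtype.val e))).1 h ⟨w, hw⟩
  exact ⟨c, (congrArg Subtype.val hc).symm⟩

end Ctx

namespace Ctx

variable {F G W : Type*} [Field F] [Group G] [AddCommGroup W] [Module ℂ W] (C : Ctx F G W)

/-! ### splitting -/

/-- each head preserves the eigenspace of its tail -/
def Good : List (ℕ × F) → Prop
  | [] => True
  | p :: L => Good L ∧ ∀ w ∈ C.Eg L, ∀ t, C.f (C.x p.1 t) w ∈ C.Eg L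

theorem good_cons {r : ℕ} {L : List (ℕ × F)} (hL : C.Good L)
    (h : ∀ w ∈ C.Eg L, ∀ p ∈ L, ∀ t u, C.f ((C.x r t)⁻¹ * C.x p.1 u * C.x r t) w = C.ψ (p.2 * u) • w) (s : F) :
    C.Good ((r, s) :: L) :=
  ⟨hL, fun _ hw t => C.maps (C.x r t) (fun w hw p hp u => h w hw p hp t u) hw⟩

variable [Fintype F]

/-- the projection -/
noncomputable def Q : List (ℕ × F) → Module.End ℂ W
  | [] => 1
  | p :: L => ReeRep.proj (C.f.compAddChar (C.x p.1)) (C.ψ.mulShift p.2) * Q L

theorem proj_mem {r : ℕ} (φ : AddChar F ℂ) {L : List (ℕ × F)}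
    (h : ∀ w ∈ C.Eg L, ∀ t, C.f (C.x r t) w ∈ C.Eg L) {w : W} (hw : w ∈ C.Eg L) :
    ReeRep.proj (C.f.compAddChar (C.x r)) φ w ∈ C.Eg L := by
  simp only [ReeRep.proj, LinearMap.smul_apply, LinearMap.sum_apply]
  exact Submodule.smul_mem _ _ (Submodule.sum_mem _ fun a _ => Submodule.smul_mem _ _ (h w hw a))

theorem proj_eigen (r : ℕ) (φ : AddChar F ℂ) (w : W) (t : F) :
    C.f (C.x r t) (ReeRep.proj (C.f.compAddChar (C.x r)) φ w) =
      φ t • ReeRep.proj (C.f.compAddChar (C.x r)) φ w := by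
  rw [← Module.End.mul_apply, show C.f (C.x r t) = C.f.compAddChar (C.x r) t from rfl, ReeRep.mul_proj,
    LinearMap.smul_apply]

/-- the projection of a character acts on an eigenvector of another one -/
theorem proj_apply_eigen {r : ℕ} (φ : AddChar F ℂ) {s : F} {w : W}
    (hw : ∀ t, C.f (C.x r t) w = C.ψ (s * t) • w) [DecidableEq (AddChar F ℂ)] :
    ReeRep.proj (C.f.compAddChar (C.x r)) φ w = if φ = C.ψ.mulShift s then w else 0 := by
  have h : ∀ a, φ (-a) * C.ψ (s * a) = (C.ψ.mulShift s - φ) a := fun a => by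
    rw [AddChar.sub_apply', AddChar.map_neg_eq_inv, AddChar.mulShift_apply, mul_comm, div_eq_mul_inv]
  simp only [ReeRep.proj, LinearMap.smul_apply, LinearMap.sum_apply, MonoidHom.compAddChar_apply,
    Function.comp_apply, hw, smul_smul]
  rw [← Finset.sum_smul, Finset.sum_congr rfl fun a _ => h a, AddChar.sum_eq_ite]
  by_cases e : φ = C.ψ.mulShift s
  · rw [if_pos e, if_pos (by rw [e, sub_self]), smul_smul,
      inv_mul_cancel₀ (Nat.cast_ne_zero.2 Fintype.card_ne_zero), one_smul]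
  · rw [if_neg e, if_neg (fun h => e (sub_eq_zero.1 h).symm), zero_smul, smul_zero]

theorem isProj {L : List (ℕ × F)} (hL : C.Good L) : LinearMap.IsProj (C.Eg L) (C.Q L) := by
  classical
  induction L with
  | nil => exact ⟨fun w p hp => absurd hp (List.not_mem_nil), fun w _ => rfl⟩
  | cons p L ih =>
    obtain ⟨r, s⟩ := p
    obtain ⟨h1, h2⟩ := hL
    have h := ih h1
    refine ⟨fun w => (C.mem_cons).2 ⟨fun t => ?_, C.proj_mem _ h2 (h.map_mem w)⟩, fun w hw => ?_⟩
    · exact (C.proj_eigen r _ _ t).trans (by rw [AddChar.mulShift_apply]; rfl)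
    · obtain ⟨e1, e2⟩ := (C.mem_cons).1 hw
      show ReeRep.proj _ _ (C.Q L w) = w
      rw [h.map_id w e2, C.proj_apply_eigen _ e1, if_pos rfl]

theorem sum_Q_aux [DecidableEq (AddChar F ℂ)] (r : ℕ) :
    ∑ s, ReeRep.proj (C.f.compAddChar (C.x r)) (C.ψ.mulShift s) = 1 := by
  have hbij : Function.Bijective fun a : F => C.ψ.mulShift a :=
    (Fintype.bijective_iff_injective_and_card _).2
      ⟨AddChar.to_mulShift_inj_of_isPrimitive C.hψ, AddChar.card_eq.symm⟩
  rw [Function.Bijective.sum_comp hbij fun φ => ReeRep.proj (C.f.compAddChar (C.x r)) φ, ReeRep.sum_proj]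

theorem sum_Q (r : ℕ) (L : List (ℕ × F)) : ∑ s, C.Q ((r, s) :: L) = C.Q L := by
  classical
  simp only [Q]
  rw [← Finset.sum_mul, C.sum_Q_aux, one_mul]

omit [Fintype F] in
theorem good_head {r : ℕ} {s s' : F} {L : List (ℕ × F)} (h : C.Good ((r, s) :: L)) : C.Good ((r, s') :: L) := h

variable [FiniteDimensional ℂ W]

theorem trace_Q {L : List (ℕ × F)} (hL : C.Good L) : trace ℂ W (C.Q L) = (C.D L : ℂ) := (C.isProj hL).trace

theorem sum_D {r : ℕ} {L : List (ℕ × F)} (h : C.Good ((r, 0) :: L)) : ∑ s, C.D ((r, s) :: L) = C.D L := by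
  have e := congrArg (trace ℂ W) (C.sum_Q r L)
  rw [map_sum, C.trace_Q h.1, Finset.sum_congr rfl fun s _ => C.trace_Q (C.good_head (s' := s) h)] at e
  exact_mod_cast e

/-- If all the other parts vanish, the eigenspace is the remaining one. -/
theorem mem_of_others_zero {r : ℕ} {s : F} {L : List (ℕ × F)} (h : C.Good ((r, 0) :: L))
    (h0 : ∀ s', s' ≠ s → C.D ((r, s') :: L) = 0) {w : W} (hw : w ∈ C.Eg L) :
    w ∈ C.Eg ((r, s) :: L) := by
  have e : ∑ s', C.Q ((r, s') :: L) w = w := by rw [← LinearMap.sum_apply, C.sum_Q, (C.isProj h.1).map_id w hw]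
  rw [Fintype.sum_eq_single s fun s' hs' =>
    (C.D_eq_zero_iff.1 (h0 s' hs') _ ((C.isProj (C.good_head (s' := s') h)).map_mem w))] at e
  rw [← e]
  exact (C.isProj (C.good_head (s' := s) h)).map_mem w

/-! ### traces -/

/-- the trace of an element on an eigenspace -/
noncomputable def T (g : G) (L : List (ℕ × F)) : ℂ := trace ℂ W (C.f g * C.Q L)

omit [FiniteDimensional ℂ W] in
theorem T_nil (g : G) : C.T g [] = trace ℂ W (C.f g) := by rw [T, Q, mul_one]

omit [FiniteDimensional ℂ W] in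
theorem sum_T (g : G) (r : ℕ) (L : List (ℕ × F)) : ∑ s, C.T g ((r, s) :: L) = C.T g L := by
  unfold T
  rw [← map_sum, ← Finset.mul_sum, C.sum_Q]

theorem T_of_D_zero (g : G) {L : List (ℕ × F)} (hL : C.Good L) (h : C.D L = 0) : C.T g L = 0 := by
  have : C.Q L = 0 := LinearMap.ext fun w => C.D_eq_zero_iff.1 h _ ((C.isProj hL).map_mem w)
  rw [T, this, mul_zero, map_zero]

theorem T_scalar {g : G} {L : List (ℕ × F)} (hL : C.Good L) {θ : ℂ} (h : ∀ w ∈ C.Eg L, C.f g w = θ • w) :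
    C.T g L = θ * (C.D L : ℂ) := by
  rw [T, ← C.trace_Q hL, ← smul_eq_mul θ (trace ℂ W (C.Q L)), ← map_smul]
  congr 1
  exact LinearMap.ext fun w => h _ ((C.isProj hL).map_mem w)

theorem T_moved {g : G} {r : ℕ} {s s' : F} (hs : s' ≠ s) {L : List (ℕ × F)} (hL : C.Good ((r, s) :: L))
    (h : ∀ w ∈ C.Eg ((r, s) :: L), C.f g w ∈ C.Eg ((r, s') :: L)) : C.T g ((r, s) :: L) = 0 := by
  classical
  have hP := C.isProj hL
  obtain ⟨A, hA⟩ : ∃ A, A = C.Q ((r, s) :: L) := ⟨_, rfl⟩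
  have e : A * (C.f g * A) = 0 := by
    refine LinearMap.ext fun w => ?_
    subst hA
    rw [Module.End.mul_apply, Module.End.mul_apply]
    obtain ⟨e1, e2⟩ := (C.mem_cons).1 (h _ (hP.map_mem w))
    show ReeRep.proj (C.f.compAddChar (C.x r)) (C.ψ.mulShift s) (C.Q L (C.f g (C.Q ((r, s) :: L) w))) = 0
    rw [(C.isProj hL.1).map_id _ e2, C.proj_apply_eigen _ e1, if_neg]
    exact fun he => hs ((AddChar.to_mulShift_inj_of_isPrimitive C.hψ) he).symm
  have hidem : A * A = A := LinearMap.ext fun w => by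
    subst hA
    exact hP.map_id _ (hP.map_mem w)
  rw [T, ← hA, ← hidem, ← mul_assoc, trace_mul_comm, e, map_zero]

end Ctx

end Cfsg.Agent.MinDegreeG2
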