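/-
Root elements, torus elements and relations of `G₂`.
-/
import Cfsg.Agent.Lib.Lie.TwG2
import Cfsg.Agent.Lib.Lie.OrderG2
import Cfsg.Agent.Lib.MinDegree.G2.Eig

set_option autoImplicit false
set_option maxRecDepth 20000

namespace Cfsg.Agent.MinDegreeG2

open Cfsg.Lie Cfsg.Agent.Chev Cfsg.Agent.Chev.Tab

variable {F : Type*} [Field F]

theorem gA : G2Data.tab.GoodA := TwG2.gA

theorem g0 : G2Data.tab.Good := gA.toGood

variable (F) in
/-- the group -/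
abbrev Gr : Type _ := ↥(G2Data.tab.D.group F)

/-- root elements -/
noncomputable def xr (r : ℕ) : AddChar F (Gr F) where
  toFun t := ⟨xg g0 r t, xg_mem_group g0 r t⟩
  map_zero_eq_one' := Subtype.ext (xg_zero g0 r)
  map_add_eq_mul' s t := Subtype.ext (xg_add g0 r s t).symm

theorem xr_val (r : ℕ) (t : F) : ((xr r t : Gr F) : GL G2Data.tab.D.Idx F) = xg g0 r t := rfl

theorem xr_inv (r : ℕ) (t : F) : (xr r t : Gr F)⁻¹ = xr r (-t) := (AddChar.map_neg_eq_inv (xr r) t).symm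

variable (F) in
/-- the simple monomial elements -/
noncomputable def nn (i : ℕ) : Gr F := ⟨nG g0 F i, nG_mem_group g0 i⟩

theorem nn_conj {i s : ℕ} (hi : i < 2) (hs : s < 12) (t : F) :
    nn F i * xr s t * (nn F i)⁻¹ = xr (G2Data.tab.ref i s) ((G2Data.tab.eta i s : F) * t) :=
  Subtype.ext (nG_conj g0 (show i < G2Data.tab.l from hi) (show s < G2Data.tab.n from hs) t)

theorem nn_conj_inv {i s : ℕ} (hi : i < 2) (hs : s < 12) (t : F) :
    (nn F i)⁻¹ * xr (G2Data.tab.ref i s) t * nn F i = xr s ((G2Data.tab.eta i s : F) * t) := by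
  have h := nn_conj (F := F) hi hs ((G2Data.tab.eta i s : F) * t)
  rw [← mul_assoc, eta_sq, one_mul] at h
  rw [← h]
  group

/-- coordinates of a torus element -/
def co (c0 c1 : Fˣ) : ℕ → Fˣ := fun i => bif Nat.beq i 0 then c0 else (bif Nat.beq i 1 then c1 else 1)

theorem co_mul (a0 a1 b0 b1 : Fˣ) : co (a0 * b0) (a1 * b1) = co a0 a1 * co b0 b1 := by
  funext i
  rcases i with _ | _ | i <;> simp [co, Nat.beq]

/-- torus elements -/
noncomputable def hh (c0 c1 : Fˣ) : Gr F :=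
  ⟨tor G2Data.tab F (co c0 c1), tor_mem_group g0 (co c0 c1)⟩

theorem hh_mul (a0 a1 b0 b1 : Fˣ) : hh (a0 * b0) (a1 * b1) = hh a0 a1 * (hh b0 b1 : Gr F) :=
  Subtype.ext ((congrArg (tor G2Data.tab F) (co_mul a0 a1 b0 b1)).trans (map_mul _ _ _))

theorem hh_one : (hh 1 1 : Gr F) = 1 :=
  Subtype.ext (by
    show tor G2Data.tab F (co 1 1) = 1
    rw [show co (1 : Fˣ) 1 = 1 from funext fun i => by rcases i with _ | _ | i <;> rfl, map_one])

theorem hh_comm (a0 a1 b0 b1 : Fˣ) : (hh a0 a1 : Gr F) * hh b0 b1 = hh b0 b1 * hh a0 a1 := by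
  rw [← hh_mul, ← hh_mul, mul_comm a0, mul_comm a1]

theorem hh_inv (a0 a1 : Fˣ) : (hh a0 a1 : Gr F)⁻¹ = hh a0⁻¹ a1⁻¹ :=
  inv_eq_of_mul_eq_one_right (by rw [← hh_mul, mul_inv_cancel, mul_inv_cancel, hh_one])

/-- the weight of a root -/
def kk (c0 c1 : Fˣ) (r : ℕ) : Fˣ := c0 ^ G2Data.tab.A 0 r * c1 ^ G2Data.tab.A 1 r

theorem wt_co (c0 c1 : Fˣ) (r : ℕ) : wt G2Data.tab F (co c0 c1) r = kk c0 c1 r := by
  rw [wt, show G2Data.tab.l = 2 from rfl, Finset.prod_range_succ, Finset.prod_range_succ, Finset.prod_range_zero,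
    one_mul]
  rfl

theorem hh_conj (c0 c1 : Fˣ) {r : ℕ} (hr : r < 12) (t : F) :
    hh c0 c1 * xr r t * (hh c0 c1)⁻¹ = xr r ((kk c0 c1 r : F) * t) := by
  refine Subtype.ext ?_
  show tor G2Data.tab F (co c0 c1) * xg g0 r t * (tor G2Data.tab F (co c0 c1))⁻¹ = _
  rw [tor_xg g0 _ (show r < G2Data.tab.n from hr), wt_co]
  rfl

theorem hh_conj_inv (c0 c1 : Fˣ) {r : ℕ} (hr : r < 12) (t : F) :
    (hh c0 c1)⁻¹ * xr r t * hh c0 c1 = xr r (((kk c0 c1 r)⁻¹ : Fˣ) * t) := by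
  have h := hh_conj c0 c1 hr (((kk c0 c1 r)⁻¹ : Fˣ) * t : F)
  rw [Units.mul_inv_cancel_left] at h
  rw [← h]
  group

theorem kk_table (c0 c1 : Fˣ) :
    kk c0 c1 4 = (c0 ^ 2)⁻¹ * c1 ∧ kk c0 c1 5 = c0 ^ 3 * (c1 ^ 2)⁻¹ ∧ kk c0 c1 6 = (c0 ^ 3)⁻¹ * c1 ^ 2 ∧
      kk c0 c1 7 = c0 ^ 2 * c1⁻¹ ∧ kk c0 c1 8 = c0⁻¹ * c1 ∧ kk c0 c1 9 = c0 ∧ kk c0 c1 10 = c0 ^ 3 * c1⁻¹ ∧
      kk c0 c1 11 = c1 := by
  obtain ⟨h4, h5, h6, h7, h8, h9, h10, h11, k4, k5, k6, k7, k8, k9, k10, k11⟩ :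
      G2Data.tab.A 0 4 = -2 ∧ G2Data.tab.A 0 5 = 3 ∧ G2Data.tab.A 0 6 = -3 ∧ G2Data.tab.A 0 7 = 2 ∧
      G2Data.tab.A 0 8 = -1 ∧ G2Data.tab.A 0 9 = 1 ∧ G2Data.tab.A 0 10 = 3 ∧ G2Data.tab.A 0 11 = 0 ∧
      G2Data.tab.A 1 4 = 1 ∧ G2Data.tab.A 1 5 = -2 ∧ G2Data.tab.A 1 6 = 2 ∧ G2Data.tab.A 1 7 = -1 ∧
      G2Data.tab.A 1 8 = 1 ∧ G2Data.tab.A 1 9 = 0 ∧ G2Data.tab.A 1 10 = -1 ∧ G2Data.tab.A 1 11 = 1 := by
    decide +kernel
  simp only [kk, h4, h5, h6, h7, h8, h9, h10, h11, k4, k5, k6, k7, k8, k9, k10, k11]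
  simp only [show ∀ (u : Fˣ) (n : ℕ), u ^ (-(n : ℤ)) = (u ^ n)⁻¹ from fun u n => by simp,
    show (-2 : ℤ) = -((2 : ℕ) : ℤ) from rfl, show (-3 : ℤ) = -((3 : ℕ) : ℤ) from rfl]
  simp

/-! ### relations -/

theorem rel {r s : ℕ} (h : r < 12 ∧ s < 12 ∧ s ≠ r ∧ s ≠ G2Data.tab.neg r) (t u : F) :
    (xr r t : Gr F)⁻¹ * xr s u * xr r t =
      xr s u * ((cVal G2Data.tab F r s t u).map fun e => (xr e.1 e.2 : Gr F)).prod := by
  obtain ⟨hr, hs, h1, h2⟩ := h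
  rw [mul_assoc, inv_mul_eq_iff_eq_mul, ← mul_assoc]
  refine Subtype.ext ?_
  have hp : ∀ L : List (ℕ × F), (((L.map fun e => (xr e.1 e.2 : Gr F)).prod : Gr F) : GL G2Data.tab.D.Idx F) =
      (L.map fun e => xg g0 e.1 e.2).prod := fun L => by
    induction L with
    | nil => rfl
    | cons e L ih => rw [List.map_cons, List.map_cons, List.prod_cons, List.prod_cons, Subgroup.coe_mul, ih]; rfl
  simp only [Subgroup.coe_mul, hp]
  exact xg_comm gA (show r < G2Data.tab.n from hr) (show s < G2Data.tab.n from hs) h1 h2 t u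

theorem rel_none {r s : ℕ} (h : r < 12 ∧ s < 12 ∧ s ≠ r ∧ s ≠ G2Data.tab.neg r)
    (he : (G2Data.tab.cTerms r s).isEmpty = true) (t u : F) : (xr r t : Gr F)⁻¹ * xr s u * xr r t = xr s u := by
  rw [rel h, cVal, List.isEmpty_iff.1 he, List.map_nil, List.map_nil, List.prod_nil, mul_one]

theorem rel_4_8 (t u : F) : (xr 4 t : Gr F)⁻¹ * xr 8 u * xr 4 t = xr 8 u * xr 6 (3 * t * u) := by
  rw [rel (by decide +kernel), cVal, show G2Data.tab.cTerms 4 8 = [(6, -3, 1, 1)] by decide +kernel]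
  simp only [List.map_cons, List.map_nil, List.prod_cons, List.prod_nil, mul_one]
  push_cast
  ring_nf

theorem rel_4_9 (t u : F) : (xr 4 t : Gr F)⁻¹ * xr 9 u * xr 4 t =
    xr 9 u * (xr 8 (2 * t * u) * (xr 6 (3 * t ^ 2 * u) * xr 11 (3 * t * u ^ 2))) := by
  rw [rel (by decide +kernel), cVal,
    show G2Data.tab.cTerms 4 9 = [(8, -2, 1, 1), (6, 3, 2, 1), (11, -3, 1, 2)] by decide +kernel]
  simp only [List.map_cons, List.map_nil, List.prod_cons, List.prod_nil, mul_one]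
  push_cast
  ring_nf

theorem rel_4_10 (t u : F) : (xr 4 t : Gr F)⁻¹ * xr 10 u * xr 4 t =
    xr 10 u * (xr 9 (-(t * u)) * (xr 8 (-(t ^ 2 * u)) * (xr 6 (-(t ^ 3 * u)) * xr 11 (t ^ 3 * u ^ 2)))) := by
  rw [rel (by decide +kernel), cVal,
    show G2Data.tab.cTerms 4 10 = [(9, 1, 1, 1), (8, -1, 2, 1), (6, 1, 3, 1), (11, -1, 3, 2)] by decide +kernel]
  simp only [List.map_cons, List.map_nil, List.prod_cons, List.prod_nil, mul_one]
  push_cast
  ring_nf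

theorem rel_7_6 (t u : F) : (xr 7 t : Gr F)⁻¹ * xr 6 u * xr 7 t =
    xr 6 u * (xr 8 (t * u) * (xr 9 (t ^ 2 * u) * (xr 10 (-(t ^ 3 * u)) * xr 11 (-(t ^ 3 * u ^ 2))))) := by
  rw [rel (by decide +kernel), cVal,
    show G2Data.tab.cTerms 7 6 = [(8, -1, 1, 1), (9, 1, 2, 1), (10, 1, 3, 1), (11, 1, 3, 2)] by decide +kernel]
  simp only [List.map_cons, List.map_nil, List.prod_cons, List.prod_nil, mul_one]
  push_cast
  ring_nf

theorem rel_7_8 (t u : F) : (xr 7 t : Gr F)⁻¹ * xr 8 u * xr 7 t =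
    xr 8 u * (xr 9 (2 * t * u) * (xr 10 (-(3 * t ^ 2 * u)) * xr 11 (-(3 * t * u ^ 2)))) := by
  rw [rel (by decide +kernel), cVal,
    show G2Data.tab.cTerms 7 8 = [(9, -2, 1, 1), (10, -3, 2, 1), (11, 3, 1, 2)] by decide +kernel]
  simp only [List.map_cons, List.map_nil, List.prod_cons, List.prod_nil, mul_one]
  push_cast
  ring_nf

theorem rel_7_9 (t u : F) : (xr 7 t : Gr F)⁻¹ * xr 9 u * xr 7 t = xr 9 u * xr 10 (-(3 * t * u)) := by
  rw [rel (by decide +kernel), cVal, show G2Data.tab.cTerms 7 9 = [(10, 3, 1, 1)] by decide +kernel]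
  simp only [List.map_cons, List.map_nil, List.prod_cons, List.prod_nil, mul_one]
  push_cast
  ring_nf

theorem rel_10_6 (t u : F) : (xr 10 t : Gr F)⁻¹ * xr 6 u * xr 10 t = xr 6 u * xr 11 (t * u) := by
  rw [rel (by decide +kernel), cVal, show G2Data.tab.cTerms 10 6 = [(11, -1, 1, 1)] by decide +kernel]
  simp only [List.map_cons, List.map_nil, List.prod_cons, List.prod_nil, mul_one]
  push_cast
  ring_nf

theorem rel_9_8 (t u : F) : (xr 9 t : Gr F)⁻¹ * xr 8 u * xr 9 t = xr 8 u * xr 11 (3 * t * u) := by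
  rw [rel (by decide +kernel), cVal, show G2Data.tab.cTerms 9 8 = [(11, -3, 1, 1)] by decide +kernel]
  simp only [List.map_cons, List.map_nil, List.prod_cons, List.prod_nil, mul_one]
  push_cast
  ring_nf

theorem rel_5_11 (t u : F) : (xr 5 t : Gr F)⁻¹ * xr 11 u * xr 5 t = xr 11 u * xr 10 (-(t * u)) := by
  rw [rel (by decide +kernel), cVal, show G2Data.tab.cTerms 5 11 = [(10, 1, 1, 1)] by decide +kernel]
  simp only [List.map_cons, List.map_nil, List.prod_cons, List.prod_nil, mul_one]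
  push_cast
  ring_nf

end Cfsg.Agent.MinDegreeG2
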