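/-
Sums over a finite Chevalley group by Bruhat cells.
-/
import Cfsg.Agent.Lib.Lie.ChevOrder

set_option autoImplicit false

namespace Cfsg.Agent.MinDegreeG2

open Cfsg.Lie Cfsg.Agent.Chev Cfsg.Agent.Chev.Tab

/-- A function constant on double cosets of the Borel subgroup is summed over representatives. -/
theorem sum_bruhat {T : Tab} {F : Type*} [Field F] [Fintype F] (g : T.GoodA) {ι : Type*} [Fintype ι]
    [Fintype ↥(T.D.group F)] {M : Type*} [AddCommMonoid M]
    (Lw : ι → List ℕ) (hLw : ∀ i, T.Wd (Lw i)) (hinj : ∀ i i', (∀ s < T.n, T.rw' (Lw i) s = T.rw' (Lw i') s) → i = i')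
    (hsurj : ∀ L, T.Wd L → ∃ i, ∀ s < T.n, T.rw' L s = T.rw' (Lw i) s)
    (Φ : ↥(T.D.group F) → M) (c : ι → M)
    (hc : ∀ i, ∀ b ∈ T.D.borelSubgroup F, ∀ u ∈ uMinus g.toGood F (Lw i), ∀ x : ↥(T.D.group F),
      (x : GL T.D.Idx F) = b * nWd g.toGood F (Lw i) * u → Φ x = c i) :
    ∑ x, Φ x = ∑ i, (Nat.card (T.D.borelSubgroup F) * Fintype.card F ^ (T.invSet (Lw i)).card) • c i := by
  classical
  have hg := g.toGood
  let f : (Σ i : ι, ↥(T.D.borelSubgroup F) × ↥(uMinus hg F (Lw i))) → ↥(T.D.group F) :=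
    fun p => ⟨(p.2.1 : GL T.D.Idx F) * nWd hg F (Lw p.1) * p.2.2,
      mul_mem (mul_mem (borel_le_group hg p.2.1.2)
        (monomial_le_group hg ((mem_monomial_iff hg).2 ⟨_, hLw p.1, 1, by simp⟩)))
        (borel_le_group hg (genS_pos_le_borel hg (fun r hr => hr) (uMinus_le_pos hg _ p.2.2.2)))⟩
  have hf : Function.Bijective f := by
    constructor
    · rintro ⟨w, ⟨b, hb⟩, ⟨u, hu⟩⟩ ⟨w', ⟨b', hb'⟩, ⟨u', hu'⟩⟩ h
      have hn := (mem_monomial_iff (F := F) hg).2 ⟨Lw w, hLw w, 1, rfl⟩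
      have hn' := (mem_monomial_iff (F := F) hg).2 ⟨Lw w', hLw w', 1, rfl⟩
      have h' : b * (tor T F 1 * nWd hg F (Lw w)) * u = b' * (tor T F 1 * nWd hg F (Lw w')) * u' := by
        simpa [f] using congrArg Subtype.val h
      obtain ⟨hd, hsame⟩ := bruhat_unique g hb hb' hn hn' (hLw w) rfl hu hu' h'
      rw [diagonalSubgroup_eq hg, map_one, one_mul, one_mul] at hd
      obtain ⟨d, hd⟩ := hd
      obtain ⟨e, he⟩ := torus_pass hg (nWd_mem_wSub (F := F) hg (hLw w)) d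
      obtain rfl : w = w' := hinj _ _ fun s hs => rw'_of_nWd_eq hg (hLw w) (hLw w') (c := e) (d := 1)
        (by rw [← he, hd, map_one, one_mul, mul_inv_cancel_left]) hs
      obtain ⟨rfl, rfl⟩ := hsame rfl rfl
      rfl
    · rintro ⟨x, hx⟩
      obtain ⟨b, hb, n, hn, L, hL, ⟨c, rfl⟩, u, hu, rfl⟩ := bruhat_exists g hx
      obtain ⟨w, hw⟩ := hsurj L hL
      have hagree : ∀ s < T.n, T.rw' (Lw w) s = T.rw' L s := fun s hs => (hw s hs).symm
      obtain ⟨⟨d, hd⟩, -⟩ := nWd_torus_of_pos (F := F) hg _ le_rfl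
        (L := L ++ (Lw w).reverse) (Wd.append_iff.2 ⟨hL, (hLw w).reverse⟩) (fun s h1 h2 => by
          have e := rw'_rev' hg (hLw w) h2
          rw [hagree _ (rw'_lt hg (hLw w).reverse h2)] at e
          rw [rw'_append, e]
          exact h1)
      obtain ⟨e, he⟩ : ∃ e, nWd hg F (Lw w) * nWd hg F (Lw w).reverse = tor T F e := by
        rw [← nWd_append]
        exact (nWd_torus_of_pos (F := F) hg _ le_rfl
          (Wd.append_iff.2 ⟨hLw w, (hLw w).reverse⟩) fun s h1 h2 => by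
            rw [rw'_append, rw'_rev' hg (hLw w) h2]; exact h1).1
      rw [nWd_append] at hd
      refine ⟨⟨w, ⟨b * (tor T F c * (tor T F d * (tor T F e)⁻¹)), mul_mem hb (mul_mem
        (torus_le_borel hg _) (mul_mem (torus_le_borel hg _) (inv_mem (torus_le_borel hg _))))⟩,
        ⟨u, by rw [uMinus_congr hg hagree]; exact hu⟩⟩, Subtype.ext ?_⟩
      show b * (tor T F c * (tor T F d * (tor T F e)⁻¹)) * nWd hg F (Lw w) * u = _
      rw [← hd, ← he]
      group
  rw [← Equiv.sum_comp (Equiv.ofBijective f hf), Fintype.sum_sigma]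
  refine Finset.sum_congr rfl fun i _ => ?_
  rw [Finset.sum_congr rfl fun p _ => hc i _ p.1.2 _ p.2.2 (Equiv.ofBijective f hf ⟨i, p⟩) rfl, Finset.sum_const,
    Finset.card_univ, ← Nat.card_eq_fintype_card, Nat.card_prod, (pos_decomp g _ (hLw i) le_rfl).2,
    Nat.card_eq_fintype_card (α := F)]

end Cfsg.Agent.MinDegreeG2
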