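/-
The spectrum of the radical of a maximal parabolic subgroup of `G₂` in a representation.
-/
import Cfsg.Agent.Lib.MinDegree.G2.Base

set_option autoImplicit false
set_option maxRecDepth 20000

namespace Cfsg.Agent.MinDegreeG2

open LinearMap Module Cfsg.Lie Cfsg.Agent.Chev Cfsg.Agent.Chev.Tab

/-- A faithful representation of `G₂` with a character of the field. -/
structure Rp (F W : Type*) [Field F] [AddCommGroup W] [Module ℂ W] where
  f : Gr F →* Module.End ℂ W
  ψ : AddChar F ℂ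
  hψ : ψ.IsPrimitive
  inj : ∀ g, f g = 1 → g = 1

namespace Rp

variable {F W : Type*} [Field F] [AddCommGroup W] [Module ℂ W] (S : Rp F W)

/-- the eigenspace machinery -/
noncomputable abbrev C : Ctx F (Gr F) W := ⟨S.f, xr, S.ψ, S.hψ⟩

theorem ev {L : List (ℕ × F)} {w : W} (hw : w ∈ S.C.Eg L) {r : ℕ} {s : F} (h : (r, s) ∈ L) (t : F) :
    S.f (xr r t) w = S.ψ (s * t) • w := hw (r, s) h t

theorem ev_mul {g g' : Gr F} {w : W} {a b : F} (h : S.f g w = S.ψ a • w) (h' : S.f g' w = S.ψ b • w) :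
    S.f (g * g') w = S.ψ (a + b) • w := by
  rw [map_mul, Module.End.mul_apply, h', map_smul, h, smul_smul, mul_comm, ← AddChar.map_add_eq_mul]

theorem fix_prod {L : List (ℕ × F)} {w : W} (hw : w ∈ S.C.Eg L) (l : List (ℕ × F))
    (h : ∀ e ∈ l, (e.1, (0 : F)) ∈ L) : S.f (l.map fun e => (xr e.1 e.2 : Gr F)).prod w = w := by
  induction l with
  | nil => simp
  | cons e l ih =>
    rw [List.map_cons, List.prod_cons, map_mul, Module.End.mul_apply, ih fun x hx => h x (List.mem_cons_of_mem _ hx),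
      S.ev hw (h e List.mem_cons_self), zero_mul, AddChar.map_zero_eq_one, one_smul]

/-- the root `r` preserves the eigenspaces of `s`, up to roots of the list `Z` -/
def pairOK (Z : List ℕ) (r s : ℕ) : Bool :=
  Nat.blt r 12 && Nat.blt s 12 && (r == s || (s != G2Data.tab.neg r && (G2Data.tab.cTerms r s).all fun c => Z.contains c.1))

theorem conj_fix {L : List (ℕ × F)} {w : W} (hw : w ∈ S.C.Eg L) {Z : List ℕ} (hZ : ∀ z ∈ Z, (z, (0 : F)) ∈ L)
    {r : ℕ} {p : ℕ × F} (hp : p ∈ L) (hok : pairOK Z r p.1 = true) (t u : F) :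
    S.f ((xr r t)⁻¹ * xr p.1 u * xr r t) w = S.ψ (p.2 * u) • w := by
  simp only [pairOK, Bool.and_eq_true, Nat.blt_eq, Bool.or_eq_true, beq_iff_eq, bne_iff_ne, ne_eq, List.all_eq_true,
    List.contains_iff_mem] at hok
  obtain ⟨⟨hr, hs⟩, rfl | ⟨h2, h3⟩⟩ := hok
  · rw [xr_inv, ← AddChar.map_add_eq_mul, ← AddChar.map_add_eq_mul, neg_add_cancel_comm]
    exact S.ev hw hp u
  by_cases he : p.1 = r
  · rw [← he, xr_inv, ← AddChar.map_add_eq_mul, ← AddChar.map_add_eq_mul, neg_add_cancel_comm]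
    exact S.ev hw hp u
  rw [rel ⟨hr, hs, he, h2⟩, map_mul, Module.End.mul_apply, S.fix_prod hw _ fun e he => ?_]
  · exact S.ev hw hp u
  · simp only [cVal, List.mem_map] at he
    obtain ⟨c, hc, rfl⟩ := he
    exact hZ _ (h3 c hc)

/-- the pairs of roots to be checked -/
def chkList (Z : List ℕ) : List ℕ → List ℕ → Bool
  | [], _ => true
  | r :: l, M => chkList Z l M && (l ++ M).all fun s => pairOK Z r s

theorem good_of_chk (Z : List ℕ) {M : List (ℕ × F)} (hM : S.C.Good M) (hZ : ∀ z ∈ Z, (z, (0 : F)) ∈ M)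
    (L : List (ℕ × F)) (h : chkList Z (L.map Prod.fst) (M.map Prod.fst) = true) : S.C.Good (L ++ M) := by
  induction L with
  | nil => exact hM
  | cons p L ih =>
    obtain ⟨r, s⟩ := p
    simp only [List.map_cons, chkList, Bool.and_eq_true, List.all_eq_true] at h
    refine S.C.good_cons (ih h.1) (fun w hw p hp t u => ?_) s
    refine S.conj_fix hw (fun z hz => List.mem_append_right _ (hZ z hz)) hp (h.2 p.1 ?_) t u
    rw [← List.map_append]
    exact List.mem_map_of_mem hp

theorem good_comm (L : List (ℕ × F)) (h : chkList [] (L.map Prod.fst) [] = true) : S.C.Good L := by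
  simpa using S.good_of_chk [] (M := []) trivial (by simp) L (by simpa using h)

theorem good_top (L : List (ℕ × F)) (h : chkList [11] (L.map Prod.fst) [11] = true) :
    S.C.Good (L ++ [(11, 0)]) :=
  S.good_of_chk [11] (M := [(11, (0 : F))])
    ⟨trivial, fun w _ t p hp => absurd hp List.not_mem_nil⟩ (by simp) L h

variable [FiniteDimensional ℂ W]

/-! ### symmetries -/

theorem D_scale (c0 c1 : Fˣ) (L : List (ℕ × F)) (hL : ∀ p ∈ L, p.1 < 12) :
    S.C.D (L.map fun p => (p.1, p.2 * (kk c0 c1 p.1 : F))) = S.C.D L := by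
  refine le_antisymm (S.C.D_le_of_maps (hh c0 c1) fun w hw => S.C.maps _ (fun w hw p hp t => ?_) hw)
    (S.C.D_le_of_maps (hh c0 c1)⁻¹ fun w hw => S.C.maps _ (fun w hw p hp t => ?_) hw)
  · show S.f _ w = _
    rw [show (S.C).x p.1 = xr p.1 from rfl, hh_conj_inv c0 c1 (hL p hp), S.ev hw (r := p.1)
      (List.mem_map.2 ⟨p, hp, rfl⟩), mul_assoc, Units.mul_inv_cancel_left]
  · obtain ⟨p', hp', rfl⟩ := List.mem_map.1 hp
    show S.f _ w = _
    rw [inv_inv, show (S.C).x p'.1 = xr p'.1 from rfl, hh_conj c0 c1 (hL p' hp'), S.ev hw hp', mul_assoc]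

theorem D_refl {i : ℕ} (hi : i < 2) (L : List (ℕ × F)) (hL : ∀ p ∈ L, p.1 < 12) :
    S.C.D (L.map fun p => (G2Data.tab.ref i p.1, p.2 * (G2Data.tab.eta i p.1 : F))) = S.C.D L := by
  refine le_antisymm (S.C.D_le_of_maps (nn F i)⁻¹ fun w hw => S.C.maps _ (fun w hw p hp t => ?_) hw)
    (S.C.D_le_of_maps (nn F i) fun w hw => S.C.maps _ (fun w hw p hp t => ?_) hw)
  · show S.f _ w = _
    rw [inv_inv, show (S.C).x p.1 = xr p.1 from rfl, nn_conj hi (hL p hp), S.ev hw (List.mem_map.2 ⟨p, hp, rfl⟩),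
      mul_assoc, ← mul_assoc (G2Data.tab.eta i p.1 : F), eta_sq, one_mul]
  · obtain ⟨p', hp', rfl⟩ := List.mem_map.1 hp
    show S.f _ w = _
    rw [show (S.C).x (G2Data.tab.ref i p'.1) = xr (G2Data.tab.ref i p'.1) from rfl, nn_conj_inv hi (hL p' hp'),
      S.ev hw hp', mul_assoc]

/-- the multiplicities on the fixed space of the top root group -/
noncomputable def n (a b c d : F) : ℕ := S.C.D [(10, d), (9, c), (8, b), (6, a), (11, 0)]

theorem n_shift4_le (a b c d t : F) :
    S.n a b c d ≤ S.n a (b + 3 * t * a) (c + 2 * t * b + 3 * t ^ 2 * a) (d - t * c - t ^ 2 * b - t ^ 3 * a) := by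
  refine S.C.D_le_of_maps (xr 4 t) fun w hw => S.C.maps _ (fun w hw p hp u => ?_) hw
  show S.f _ w = _
  simp only [List.mem_cons, List.not_mem_nil, or_false] at hp
  rcases hp with rfl | rfl | rfl | rfl | rfl <;> dsimp only
  · rw [rel_4_10, S.ev_mul (S.ev hw (r := 10) (s := d) (by simp) _) (S.ev_mul (S.ev hw (r := 9) (s := c) (by simp) _)
      (S.ev_mul (S.ev hw (r := 8) (s := b) (by simp) _) (S.ev_mul (S.ev hw (r := 6) (s := a) (by simp) _)
        (S.ev hw (r := 11) (s := 0) (by simp) _))))]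
    congr 2
    ring
  · rw [rel_4_9, S.ev_mul (S.ev hw (r := 9) (s := c) (by simp) _) (S.ev_mul (S.ev hw (r := 8) (s := b) (by simp) _)
      (S.ev_mul (S.ev hw (r := 6) (s := a) (by simp) _) (S.ev hw (r := 11) (s := 0) (by simp) _)))]
    congr 2
    ring
  · rw [rel_4_8, S.ev_mul (S.ev hw (r := 8) (s := b) (by simp) _) (S.ev hw (r := 6) (s := a) (by simp) _)]
    congr 2
    ring
  · rw [rel_none (by decide +kernel) (by decide +kernel)]
    exact S.ev hw (by simp) u
  · rw [rel_none (by decide +kernel) (by decide +kernel)]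
    exact S.ev hw (by simp) u

theorem n_shift4 (a b c d t : F) :
    S.n a (b + 3 * t * a) (c + 2 * t * b + 3 * t ^ 2 * a) (d - t * c - t ^ 2 * b - t ^ 3 * a) = S.n a b c d := by
  refine le_antisymm ((S.n_shift4_le _ _ _ _ (-t)).trans (le_of_eq ?_)) (S.n_shift4_le a b c d t)
  congr 1 <;> ring

theorem n_shift7_le (a b c d t : F) :
    S.n a b c d ≤ S.n (a + t * b + t ^ 2 * c - t ^ 3 * d) (b + 2 * t * c - 3 * t ^ 2 * d) (c - 3 * t * d) d := by
  refine S.C.D_le_of_maps (xr 7 t) fun w hw => S.C.maps _ (fun w hw p hp u => ?_) hw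
  show S.f _ w = _
  simp only [List.mem_cons, List.not_mem_nil, or_false] at hp
  rcases hp with rfl | rfl | rfl | rfl | rfl <;> dsimp only
  · rw [rel_none (by decide +kernel) (by decide +kernel)]
    exact S.ev hw (by simp) u
  · rw [rel_7_9, S.ev_mul (S.ev hw (r := 9) (s := c) (by simp) _) (S.ev hw (r := 10) (s := d) (by simp) _)]
    congr 2
    ring
  · rw [rel_7_8, S.ev_mul (S.ev hw (r := 8) (s := b) (by simp) _) (S.ev_mul (S.ev hw (r := 9) (s := c) (by simp) _)
      (S.ev_mul (S.ev hw (r := 10) (s := d) (by simp) _) (S.ev hw (r := 11) (s := 0) (by simp) _)))]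
    congr 2
    ring
  · rw [rel_7_6, S.ev_mul (S.ev hw (r := 6) (s := a) (by simp) _) (S.ev_mul (S.ev hw (r := 8) (s := b) (by simp) _)
      (S.ev_mul (S.ev hw (r := 9) (s := c) (by simp) _) (S.ev_mul (S.ev hw (r := 10) (s := d) (by simp) _)
        (S.ev hw (r := 11) (s := 0) (by simp) _))))]
    congr 2
    ring
  · rw [rel_none (by decide +kernel) (by decide +kernel)]
    exact S.ev hw (by simp) u

theorem n_shift7 (a b c d t : F) :
    S.n (a + t * b + t ^ 2 * c - t ^ 3 * d) (b + 2 * t * c - 3 * t ^ 2 * d) (c - 3 * t * d) d = S.n a b c d := by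
  refine le_antisymm ((S.n_shift7_le _ _ _ _ (-t)).trans (le_of_eq ?_)) (S.n_shift7_le a b c d t)
  congr 1 <;> ring

theorem n_tor (c0 c1 : Fˣ) (a b c d : F) :
    S.n (a * (kk c0 c1 6 : F)) (b * (kk c0 c1 8 : F)) (c * (kk c0 c1 9 : F)) (d * (kk c0 c1 10 : F)) =
      S.n a b c d := by
  have h := S.D_scale c0 c1 [(10, d), (9, c), (8, b), (6, a), (11, 0)] (by simp)
  simp only [List.map_cons, List.map_nil, zero_mul] at h
  exact h

/-- the signs of the short simple reflection -/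
theorem exists_flip : ∃ e1 e2 e3 e4 : Fˣ, ∀ a b c d : F,
    S.n ((e1 : F) * d) ((e2 : F) * c) ((e3 : F) * b) ((e4 : F) * a) = S.n a b c d := by
  refine ⟨⟨_, _, eta_sq G2Data.tab 0 10, eta_sq G2Data.tab 0 10⟩, ⟨_, _, eta_sq G2Data.tab 0 9, eta_sq G2Data.tab 0 9⟩,
    ⟨_, _, eta_sq G2Data.tab 0 8, eta_sq G2Data.tab 0 8⟩, ⟨_, _, eta_sq G2Data.tab 0 6, eta_sq G2Data.tab 0 6⟩,
    fun a b c d => ?_⟩
  have h := S.D_refl (i := 0) (by omega) [(10, d), (9, c), (8, b), (6, a), (11, 0)] (by simp)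
  obtain ⟨r10, r9, r8, r6, r11⟩ : G2Data.tab.ref 0 10 = 6 ∧ G2Data.tab.ref 0 9 = 8 ∧ G2Data.tab.ref 0 8 = 9 ∧
      G2Data.tab.ref 0 6 = 10 ∧ G2Data.tab.ref 0 11 = 11 := by decide +kernel
  simp only [List.map_cons, List.map_nil, zero_mul, r10, r9, r8, r6, r11] at h
  refine Eq.trans ?_ h
  rw [n, mul_comm _ d, mul_comm _ c, mul_comm _ b, mul_comm _ a]
  exact S.C.D_congr (by simp) (by simp)

/-! ### dimensions -/

variable [Fintype F]

theorem sum_cd (a b : F) : ∑ c, ∑ d, S.n a b c d = S.C.D [(8, b), (6, a), (11, 0)] := by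
  rw [← S.C.sum_D (r := 9) (L := [(8, b), (6, a), (11, 0)])
    (S.good_top [(9, 0), (8, b), (6, a)] (by simp only [List.map_cons, List.map_nil]; decide +kernel))]
  exact Finset.sum_congr rfl fun c _ => S.C.sum_D (r := 10) (L := [(9, c), (8, b), (6, a), (11, 0)])
    (S.good_top [(10, 0), (9, c), (8, b), (6, a)] (by simp only [List.map_cons, List.map_nil]; decide +kernel))

theorem sum_bcd (a : F) : ∑ b, ∑ c, ∑ d, S.n a b c d = S.C.D [(6, a), (11, 0)] := by
  rw [← S.C.sum_D (r := 8) (L := [(6, a), (11, 0)])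
    (S.good_top [(8, 0), (6, a)] (by simp only [List.map_cons, List.map_nil]; decide +kernel))]
  exact Finset.sum_congr rfl fun b _ => S.sum_cd a b

theorem sum_abcd : ∑ a, ∑ b, ∑ c, ∑ d, S.n a b c d = S.C.D [(11, 0)] := by
  rw [← S.C.sum_D (r := 6) (L := [(11, 0)])
    (S.good_top [(6, 0)] (by simp only [List.map_cons, List.map_nil]; decide +kernel))]
  exact Finset.sum_congr rfl fun a _ => S.sum_bcd a

theorem finrank_eq [DecidableEq F] :
    finrank ℂ W = S.C.D [(11, 0)] + ∑ s ∈ (Finset.univ : Finset F).erase 0, S.C.D [(11, s)] := by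
  have h : S.C.Good [(11, 0)] := S.good_top [] rfl
  rw [Finset.add_sum_erase Finset.univ (fun s => S.C.D [(11, s)]) (Finset.mem_univ (0 : F)), ← S.C.D_nil]
  exact (S.C.sum_D h).symm

omit [Fintype F] in
/-- The fixed spaces of the two long root groups have the same dimension. -/
theorem swap : S.C.D [(6, 0)] = S.C.D [(11, 0)] := by
  have h1 := S.D_refl (i := 0) (by omega) [(6, 0)] (by simp)
  have h2 := S.D_refl (i := 1) (by omega) [(10, 0)] (by simp)
  simp only [List.map_cons, List.map_nil, zero_mul, show G2Data.tab.ref 0 6 = 10 by decide +kernel] at h1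
  simp only [List.map_cons, List.map_nil, zero_mul, show G2Data.tab.ref 1 10 = 11 by decide +kernel] at h2
  rw [← h1, h2]

theorem six_fixed [DecidableEq F] : S.C.D [(6, 0), (11, 0)] +
    ∑ s ∈ (Finset.univ : Finset F).erase 0, S.C.D [(6, 0), (11, s)] = S.C.D [(11, 0)] := by
  rw [← S.swap, ← S.C.sum_D (r := 11) (L := [(6, 0)])
    (S.good_comm [(11, 0), (6, 0)] (by simp only [List.map_cons, List.map_nil]; decide +kernel)),
    ← Finset.add_sum_erase _ _ (Finset.mem_univ (0 : F))]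
  exact congrArg₂ (· + ·) (S.C.D_congr (by simp) (by simp))
    (Finset.sum_congr rfl fun s _ => S.C.D_congr (by simp) (by simp))

/-- The top root group is not trivial. -/
theorem exists_top_ne_zero : ∃ s : F, s ≠ 0 ∧ S.C.D [(11, s)] ≠ 0 := by
  classical
  by_contra hc
  push Not at hc
  have h : S.C.Good [(11, (0 : F))] := S.good_top [] rfl
  have h1 : S.f (xr 11 1) = 1 := LinearMap.ext fun w => by
    rw [S.ev (S.C.mem_of_others_zero h hc (w := w) fun p hp => absurd hp List.not_mem_nil) List.mem_cons_self,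
      zero_mul, AddChar.map_zero_eq_one, one_smul, Module.End.one_apply]
  exact one_ne_zero (xg_injective g0 (show 11 < G2Data.tab.n by decide +kernel)
    ((congrArg Subtype.val (S.inj _ h1)).trans (xg_zero g0 11).symm))

end Rp

end Cfsg.Agent.MinDegreeG2
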