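/-
The shape of a small representation of `G₂(q)` when the characteristic is not three.
-/
import Cfsg.Agent.Lib.MinDegree.G2.Spectrum
import Mathlib.RingTheory.IntegralDomain

set_option autoImplicit false
set_option maxRecDepth 20000

namespace Cfsg.Agent.MinDegreeG2

open LinearMap Module Cfsg.Lie Cfsg.Agent.Chev Cfsg.Agent.Chev.Tab

/-- A unit of large order. -/
theorem exists_unit (F : Type*) [Field F] [Fintype F] : ∃ u : Fˣ, ∀ k, 0 < k → k + 1 < Fintype.card F → u ^ k ≠ 1 := by
  classical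
  obtain ⟨u, hu⟩ := IsCyclic.exists_ofOrder_eq_natCard (α := Fˣ)
  refine ⟨u, fun k hk hk' h => ?_⟩
  have h1 := Nat.le_of_dvd hk (orderOf_dvd_of_pow_eq_one h)
  rw [hu, Nat.card_eq_fintype_card, Fintype.card_units] at h1
  omega

namespace Rp

variable {F W : Type*} [Field F] [Fintype F] [AddCommGroup W] [Module ℂ W] [FiniteDimensional ℂ W] (S : Rp F W)

/-- translation of the coordinate at the root `6` -/
theorem trans6 (s a b t : F) : S.C.D [(8, b), (6, a + t * s), (11, s)] = S.C.D [(8, b), (6, a), (11, s)] := by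
  have key : ∀ a t : F, S.C.D [(8, b), (6, a), (11, s)] ≤ S.C.D [(8, b), (6, a + t * s), (11, s)] := fun a t => by
    refine S.C.D_le_of_maps (xr 10 t) fun w hw => S.C.maps _ (fun w hw p hp u => ?_) hw
    show S.f _ w = _
    simp only [List.mem_cons, List.not_mem_nil, or_false] at hp
    rcases hp with rfl | rfl | rfl <;> dsimp only
    · rw [rel_none (by decide +kernel) (by decide +kernel)]
      exact S.ev hw (by simp) u
    · rw [rel_10_6, S.ev_mul (S.ev hw (r := 6) (s := a) (by simp) _) (S.ev hw (r := 11) (s := s) (by simp) _)]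
      congr 2
      ring
    · rw [rel_none (by decide +kernel) (by decide +kernel)]
      exact S.ev hw (by simp) u
  exact le_antisymm ((key _ (-t)).trans (le_of_eq (by rw [neg_mul, add_neg_cancel_right]))) (key a t)

/-- translation of the coordinate at the root `8` -/
theorem trans8 (s a b t : F) : S.C.D [(8, b + 3 * t * s), (6, a), (11, s)] = S.C.D [(8, b), (6, a), (11, s)] := by
  have key : ∀ b t : F, S.C.D [(8, b), (6, a), (11, s)] ≤ S.C.D [(8, b + 3 * t * s), (6, a), (11, s)] := fun b t => by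
    refine S.C.D_le_of_maps (xr 9 t) fun w hw => S.C.maps _ (fun w hw p hp u => ?_) hw
    show S.f _ w = _
    simp only [List.mem_cons, List.not_mem_nil, or_false] at hp
    rcases hp with rfl | rfl | rfl <;> dsimp only
    · rw [rel_9_8, S.ev_mul (S.ev hw (r := 8) (s := b) (by simp) _) (S.ev hw (r := 11) (s := s) (by simp) _)]
      congr 2
      ring
    · rw [rel_none (by decide +kernel) (by decide +kernel)]
      exact S.ev hw (by simp) u
    · rw [rel_none (by decide +kernel) (by decide +kernel)]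
      exact S.ev hw (by simp) u
  exact le_antisymm ((key _ (-t)).trans (le_of_eq (by rw [show b + 3 * t * s + 3 * -t * s = b by ring]))) (key b t)

theorem flat (h3 : (3 : F) ≠ 0) {s : F} (hs : s ≠ 0) (a b : F) :
    S.C.D [(8, b), (6, a), (11, s)] = S.C.D [(8, 0), (6, 0), (11, 1)] := by
  have e := S.trans6 s 0 b (a / s)
  rw [zero_add, div_mul_cancel₀ _ hs] at e
  have e' := S.trans8 s 0 0 (b / (3 * s))
  rw [zero_add, show 3 * (b / (3 * s)) * s = b by field_simp] at e'
  have e'' := S.D_scale 1 (Units.mk0 s hs) [(8, 0), (6, 0), (11, 1)] (by simp)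
  simp only [List.map_cons, List.map_nil, zero_mul, (kk_table 1 (Units.mk0 s hs)).2.2.2.2.2.2.2, one_mul,
    Units.val_mk0] at e''
  rw [e, e', e'']

theorem sum_top (h3 : (3 : F) ≠ 0) {s : F} (hs : s ≠ 0) (a : F) :
    S.C.D [(6, a), (11, s)] = Fintype.card F * S.C.D [(8, 0), (6, 0), (11, 1)] := by
  rw [← S.C.sum_D (r := 8) (L := [(6, a), (11, s)])
    (S.good_comm [(8, 0), (6, a), (11, s)] (by simp only [List.map_cons, List.map_nil]; decide +kernel)),
    Finset.sum_congr rfl fun b _ => S.flat h3 hs a b, Finset.sum_const, Finset.card_univ, smul_eq_mul]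

theorem top_eq (h3 : (3 : F) ≠ 0) {s : F} (hs : s ≠ 0) :
    S.C.D [(11, s)] = Fintype.card F * (Fintype.card F * S.C.D [(8, 0), (6, 0), (11, 1)]) := by
  rw [← S.C.sum_D (r := 6) (L := [(11, s)])
    (S.good_comm [(6, 0), (11, s)] (by simp only [List.map_cons, List.map_nil]; decide +kernel)),
    Finset.sum_congr rfl fun a _ => S.sum_top h3 hs a, Finset.sum_const, Finset.card_univ, smul_eq_mul]

omit [Fintype F] in
theorem scale6 {a : F} (ha : a ≠ 0) : S.C.D [(6, a), (11, 0)] = S.C.D [(6, 1), (11, 0)] := by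
  have e := S.D_scale (Units.mk0 a ha)⁻¹ (Units.mk0 a ha)⁻¹ [(6, 1), (11, 0)] (by simp)
  simp only [List.map_cons, List.map_nil, zero_mul, one_mul, (kk_table (Units.mk0 a ha)⁻¹ _).2.2.1] at e
  rw [← e]
  congr 4
  simp only [Units.val_mul, Units.val_inv_eq_inv_val, Units.val_pow_eq_pow_val, Units.val_mk0]
  field_simp

theorem six_ne (h3 : (3 : F) ≠ 0) {a : F} (ha : a ≠ 0) :
    S.C.D [(6, a), (11, 0)] = Fintype.card F * S.C.D [(8, 0), (6, 0), (11, 1)] := by
  classical
  have h := S.six_fixed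
  rw [Finset.sum_congr rfl fun s hs => S.sum_top h3 (Finset.ne_of_mem_erase hs) 0,
    ← S.C.sum_D (r := 6) (L := [(11, 0)])
      (S.good_top [(6, 0)] (by simp only [List.map_cons, List.map_nil]; decide +kernel)),
    ← Finset.add_sum_erase _ _ (Finset.mem_univ (0 : F)),
    Finset.sum_congr rfl fun a ha => S.scale6 (Finset.ne_of_mem_erase ha), Nat.add_left_cancel_iff,
    Finset.sum_const, Finset.sum_const, smul_eq_mul, smul_eq_mul] at h
  rw [S.scale6 ha]
  exact (Nat.eq_of_mul_eq_mul_left (Finset.card_pos.2 ⟨1, by simp⟩) h).symm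

omit [Fintype F] in
theorem shift8 (a b t : F) : S.C.D [(8, b + 3 * t * a), (6, a), (11, 0)] = S.C.D [(8, b), (6, a), (11, 0)] := by
  have key : ∀ b t : F, S.C.D [(8, b), (6, a), (11, 0)] ≤ S.C.D [(8, b + 3 * t * a), (6, a), (11, 0)] := fun b t => by
    refine S.C.D_le_of_maps (xr 4 t) fun w hw => S.C.maps _ (fun w hw p hp u => ?_) hw
    show S.f _ w = _
    simp only [List.mem_cons, List.not_mem_nil, or_false] at hp
    rcases hp with rfl | rfl | rfl <;> dsimp only
    · rw [rel_4_8, S.ev_mul (S.ev hw (r := 8) (s := b) (by simp) _) (S.ev hw (r := 6) (s := a) (by simp) _)]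
      congr 2
      ring
    · rw [rel_none (by decide +kernel) (by decide +kernel)]
      exact S.ev hw (by simp) u
    · rw [rel_none (by decide +kernel) (by decide +kernel)]
      exact S.ev hw (by simp) u
  exact le_antisymm ((key _ (-t)).trans (le_of_eq (by rw [show b + 3 * t * a + 3 * -t * a = b by ring]))) (key b t)

theorem cd_eq (h3 : (3 : F) ≠ 0) {a : F} (ha : a ≠ 0) (b : F) :
    ∑ c, ∑ d, S.n a b c d = S.C.D [(8, 0), (6, 0), (11, 1)] := by
  have h : ∀ b, S.C.D [(8, b), (6, a), (11, 0)] = S.C.D [(8, 0), (6, a), (11, 0)] := fun b => by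
    have e := S.shift8 a 0 (b / (3 * a))
    rwa [zero_add, show 3 * (b / (3 * a)) * a = b by field_simp] at e
  have e := S.six_ne h3 ha
  rw [← S.C.sum_D (r := 8) (L := [(6, a), (11, 0)])
    (S.good_top [(8, 0), (6, a)] (by simp only [List.map_cons, List.map_nil]; decide +kernel)),
    Finset.sum_congr rfl fun b _ => h b, Finset.sum_const, Finset.card_univ, smul_eq_mul] at e
  rw [S.sum_cd, h b, Nat.eq_of_mul_eq_mul_left Fintype.card_pos e]

theorem finrank_notThree (h3 : (3 : F) ≠ 0) : finrank ℂ W =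
    (Fintype.card F - 1) * (Fintype.card F ^ 2 + Fintype.card F) * S.C.D [(8, 0), (6, 0), (11, 1)] +
      S.C.D [(6, 0), (11, 0)] := by
  classical
  have h := S.six_fixed
  rw [Finset.sum_congr rfl fun s hs => S.sum_top h3 (Finset.ne_of_mem_erase hs) 0, Finset.sum_const,
    Finset.card_erase_of_mem (Finset.mem_univ _), Finset.card_univ, smul_eq_mul] at h
  rw [S.finrank_eq, ← h, Finset.sum_congr rfl fun s hs => S.top_eq h3 (Finset.ne_of_mem_erase hs), Finset.sum_const,
    Finset.card_erase_of_mem (Finset.mem_univ _), Finset.card_univ, smul_eq_mul]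
  ring

theorem mult_ne_zero (h3 : (3 : F) ≠ 0) : S.C.D [(8, 0), (6, 0), (11, 1)] ≠ 0 := by
  intro h
  obtain ⟨s, hs, hne⟩ := S.exists_top_ne_zero
  rw [S.top_eq h3 hs, h, mul_zero, mul_zero] at hne
  exact hne rfl

/-! ### multiplicity one -/

variable (h3 : (3 : F) ≠ 0) (hq : 5 ≤ Fintype.card F) (h1 : S.C.D [(8, 0), (6, 0), (11, 1)] = 1)

include h3 hq h1

theorem exists_point {a : F} (ha : a ≠ 0) :
    S.n a 0 0 0 = 1 ∧ ∀ c d, S.n a 0 c d ≠ 0 → c = 0 ∧ d = 0 := by
  classical
  have hs := (S.cd_eq h3 ha 0).trans h1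
  rw [← Fintype.sum_prod_type'] at hs
  have uniq : ∀ p p' : F × F, S.n a 0 p.1 p.2 ≠ 0 → S.n a 0 p'.1 p'.2 ≠ 0 → p = p' := by
    intro p p' hp hp'
    by_contra hne
    have h2 : ∑ x ∈ ({p, p'} : Finset (F × F)), S.n a 0 x.1 x.2 ≤ ∑ x : F × F, S.n a 0 x.1 x.2 :=
      Finset.sum_le_sum_of_subset (Finset.subset_univ _)
    rw [Finset.sum_pair hne] at h2
    omega
  have hzero : ∀ c d, S.n a 0 c d ≠ 0 → c = 0 ∧ d = 0 := by
    intro c d hcd
    obtain ⟨u, hu⟩ := exists_unit F
    obtain ⟨-, -, t6, -, t8, t9, t10, -⟩ := kk_table (u ^ 2) (u ^ 3)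
    have e := S.n_tor (u ^ 2) (u ^ 3) a 0 c d
    have i6 : kk (u ^ 2) (u ^ 3) 6 = 1 := by rw [t6, ← pow_mul, ← pow_mul]; simp
    have i10 : kk (u ^ 2) (u ^ 3) 10 = u ^ 3 := by
      rw [t10, ← pow_mul, show 2 * 3 = 3 + 3 from rfl, pow_add, mul_inv_cancel_right]
    rw [i6, t9, i10, Units.val_one, mul_one, zero_mul] at e
    obtain ⟨e1, e2⟩ := Prod.ext_iff.1 (uniq (_, _) (c, d) (e ▸ hcd) hcd)
    constructor
    · by_contra hc
      exact hu 2 (by omega) (by omega) (Units.ext (mul_left_cancel₀ hc (e1.trans (mul_one c).symm)))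
    · by_contra hd
      exact hu 3 (by omega) (by omega) (Units.ext (mul_left_cancel₀ hd (e2.trans (mul_one d).symm)))
  refine ⟨?_, hzero⟩
  rw [← hs, Fintype.sum_eq_single ((0 : F), (0 : F)) fun p hp => ?_]
  by_contra hne
  exact hp (Prod.ext (hzero _ _ hne).1 (hzero _ _ hne).2)

theorem point_last {d : F} (hd : d ≠ 0) : S.n 0 0 0 d = 1 := by
  obtain ⟨e1, e2, e3, e4, he⟩ := S.exists_flip
  rw [← he 0 0 0 d, mul_zero, mul_zero, mul_zero]
  exact (S.exists_point h3 hq h1 (mul_ne_zero (Units.ne_zero e1) hd)).1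

theorem support_zero {b c d : F} (h : S.n 0 b c d ≠ 0) : b = 0 ∧ c = 0 := by
  by_contra hbc
  obtain ⟨t, ht⟩ : ∃ t : F, t * b + t ^ 2 * c - t ^ 3 * d ≠ 0 := by
    by_contra hall
    push Not at hall
    obtain ⟨u, hu⟩ := exists_unit F
    have u1 : (u : F) ≠ 1 := fun e => hu 1 (by omega) (by omega) (by rw [pow_one]; exact Units.ext e)
    have u2 : (u : F) ^ 2 ≠ 1 := fun e => hu 2 (by omega) (by omega) (Units.ext (by simpa using e))
    have key : ∀ t : Fˣ, b + (t : F) * c - (t : F) ^ 2 * d = 0 := fun t =>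
      mul_left_cancel₀ (Units.ne_zero t) (by rw [mul_zero]; linear_combination hall (t : F))
    have k0 := key 1
    have k1 := key u
    have k2 := key (u ^ 2)
    simp only [Units.val_one, one_mul, one_pow, Units.val_pow_eq_pow_val] at k0 k2
    have a1 : c - ((u : F) + 1) * d = 0 :=
      mul_left_cancel₀ (sub_ne_zero.2 u1) (by rw [mul_zero]; linear_combination k1 - k0)
    have a2 : c - ((u : F) ^ 2 + 1) * d = 0 :=
      mul_left_cancel₀ (sub_ne_zero.2 u2) (by rw [mul_zero]; linear_combination k2 - k0)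
    have hd : d = 0 := mul_left_cancel₀ (mul_ne_zero (Units.ne_zero u) (sub_ne_zero.2 u1))
      (by rw [mul_zero]; linear_combination a1 - a2)
    have hc : c = 0 := by linear_combination a1 + ((u : F) + 1) * hd
    exact hbc ⟨by linear_combination k0 - hc + hd, hc⟩
  obtain ⟨f, hf⟩ : ∃ f, f = 0 + t * b + t ^ 2 * c - t ^ 3 * d := ⟨_, rfl⟩
  have hf0 : f ≠ 0 := by rwa [hf, zero_add]
  rw [← S.n_shift7 0 b c d t, ← hf] at h
  obtain ⟨T, hT⟩ : ∃ T, b + 2 * t * c - 3 * t ^ 2 * d = 3 * T * f :=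
    ⟨(b + 2 * t * c - 3 * t ^ 2 * d) / (3 * f), by field_simp⟩
  rw [← S.n_shift4 _ _ _ _ (-T), hT, show 3 * T * f + 3 * -T * f = 0 by ring] at h
  obtain ⟨h9, h10⟩ := (S.exists_point h3 hq h1 hf0).2 _ _ h
  have hd : d = -T ^ 3 * f := by linear_combination h10 - T * h9
  have hc : c = 3 * T ^ 2 * f * (1 - t * T) := by linear_combination h9 + 3 * t * hd
  have hb : b = 3 * T * f * (1 - t * T) ^ 2 := by linear_combination hT - 2 * t * hc + 3 * t ^ 2 * hd
  have h0 : f * (1 - t * T) ^ 3 = 0 := by linear_combination hf + t * hb + t ^ 2 * hc - t ^ 3 * hd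
  have hx : 1 - t * T = 0 := pow_eq_zero_iff (n := 3) (by omega) |>.1 ((mul_eq_zero.1 h0).resolve_left hf0)
  exact hbc ⟨by rw [hb, hx]; ring, by rw [hc, hx]; ring⟩

theorem finrank_one : finrank ℂ W + 1 = Fintype.card F ^ 3 + S.n 0 0 0 0 := by
  classical
  have h : S.C.D [(6, 0), (11, 0)] = Fintype.card F - 1 + S.n 0 0 0 0 := by
    rw [← S.sum_bcd, Fintype.sum_eq_single (0 : F), Fintype.sum_eq_single (0 : F),
      ← Finset.sum_erase_add _ _ (Finset.mem_univ (0 : F)),
      Finset.sum_congr rfl fun d hd => S.point_last h3 hq h1 (Finset.ne_of_mem_erase hd)]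
    · simp [Finset.card_erase_of_mem]
    · intro c hc
      refine Finset.sum_eq_zero fun d _ => ?_
      by_contra hne
      exact hc (S.support_zero h3 hq h1 hne).2
    · intro b hb
      refine Finset.sum_eq_zero fun c _ => Finset.sum_eq_zero fun d _ => ?_
      by_contra hne
      exact hb (S.support_zero h3 hq h1 hne).1
  rw [S.finrank_notThree h3, h1, h, mul_one]
  obtain ⟨t, ht⟩ : ∃ t, Fintype.card F = t + 1 := ⟨Fintype.card F - 1, by omega⟩
  rw [ht, Nat.add_sub_cancel]
  ring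

end Rp

end Cfsg.Agent.MinDegreeG2
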