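/-
The centraliser of a torus element of a Chevalley group, by the Bruhat decomposition.
-/
import Cfsg.Agent.Lib.ChevOdd.Cent

set_option autoImplicit false

namespace Cfsg.Agent.MinDegreeG2.TorCent

open Cfsg.Lie Cfsg.Agent.Chev Cfsg.Agent.Chev.Tab Cfsg.Agent.Chev.Tab.BTi
open Cfsg.Agent.ChevOdd (cl_inv card_genS nWd_dg)

variable {T : Tab} {K : List (List ℕ)} {F : Type*} [Field F]

variable (T) in
/-- the positive roots fixed by the element -/
def posZ (d : ℕ → Fˣ) : Set ℕ := {r | (T.N ≤ r ∧ r < T.n) ∧ wt T F d r = 1}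

theorem cl_posZ (g : T.Good) (d : ℕ → Fˣ) : Cl T (posZ T d) := by
  refine ⟨fun r hr => hr.1, fun r hr s hs c hc => ?_⟩
  obtain ⟨q1, -, -, q4, q5⟩ := cTerms_mem g hr.1.2 hs.1.2 hc
  refine ⟨⟨le_trans hr.1.1 (q5 hr.1.1 hs.1.1).1.le, q1⟩, ?_⟩
  have e : wt T F d c.1 = wt T F d r ^ (c.2.2.1 : ℤ) * wt T F d s ^ (c.2.2.2 : ℤ) := by
    simp only [wt, ← Finset.prod_zpow, ← Finset.prod_mul_distrib]
    refine Finset.prod_congr rfl fun j hj => ?_
    rw [← zpow_mul, ← zpow_mul, ← zpow_add, q4 j (Finset.mem_range.1 hj)]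
    ring_nf
  rw [e, hr.2, hs.2, one_zpow, one_zpow, one_mul]

/-- A word preserving the weights commutes with the element. -/
theorem nWd_fix (g : T.Good) {L : List ℕ} (hL : T.Wd L) {d : ℕ → Fˣ}
    (h : ∀ r < T.n, wt T F d (T.rw' L r) = wt T F d r) :
    nWd g F L * tor T F d * (nWd g F L)⁻¹ = tor T F d := by
  rw [tor_apply, nWd_dg g hL]
  refine dg_congr g fun s hs => ?_
  have e := h _ (rw'_lt g hL.reverse hs)
  rw [rw'_rev' g hL hs] at e
  exact e.symm

theorem tor_conj_ord (g : T.Good) (d : ℕ → Fˣ) (t : ℕ → F) :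
    tor T F d * ordProd g T.N t * (tor T F d)⁻¹ = ordProd g T.N (fun r => (wt T F d r : F) * t r) := by
  rw [← MulAut.conj_apply, ordProd, map_list_prod, List.map_map, ordProd]
  refine congrArg List.prod (List.map_congr_left fun r hr => ?_)
  rw [List.mem_range'_1] at hr
  rw [Function.comp_apply, MulAut.conj_apply, tor_xg g _ (by omega)]

/-- The elements of a closed root subgroup commuting with the element. -/
theorem fixed_iff (g : T.GoodA) (d : ℕ → Fˣ) {S : Set ℕ} (hS : Cl T S) {x : GL T.D.Idx F} :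
    x ∈ genS g.toGood F S ∧ tor T F d * x * (tor T F d)⁻¹ = x ↔
      x ∈ genS g.toGood F (S ∩ posZ T d) := by
  have hg := g.toGood
  constructor
  · rintro ⟨hx, hc⟩
    obtain ⟨t, rfl, ht0⟩ := exists_coords g hS T.n T.N (by omega) x (by
      rwa [Set.inter_eq_left.2 hS.pos])
    rw [tor_conj_ord] at hc
    have e := (ordProd_spec g T.n T.N le_rfl (by omega)).2 _ _ hc
    refine Subgroup.list_prod_mem _ fun y hy => ?_
    obtain ⟨r, hr, rfl⟩ := List.mem_map.1 hy
    rw [List.mem_range'_1] at hr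
    by_cases hrS : r ∈ S
    swap
    · rw [ht0 r hr.1 (by omega) hrS, xg_zero]; exact one_mem _
    by_cases hH : wt T F d r = 1
    · exact xg_mem_genS hg (S := S ∩ posZ T d) ⟨hrS, ⟨hr.1, by omega⟩, hH⟩ _
    · have h := e r hr.1 (by omega)
      have : t r = 0 := by
        by_contra ht
        exact hH (Units.ext (mul_right_cancel₀ ht (h.trans (one_mul _).symm)))
      rw [this, xg_zero]; exact one_mem _
  · intro hx
    refine ⟨genS_mono hg Set.inter_subset_left hx, ?_⟩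
    refine genS_induction hg (p := fun x => tor T F d * x * (tor T F d)⁻¹ = x) (by group) ?_ hx
    rintro r hr t y hy
    calc tor T F d * (xg hg r t * y) * (tor T F d)⁻¹
        = (tor T F d * xg hg r t * (tor T F d)⁻¹) * (tor T F d * y * (tor T F d)⁻¹) := by group
      _ = _ := by rw [hy, tor_xg hg _ hr.2.1.2, hr.2.2, Units.val_one, one_mul]

variable (T) in
/-- The stabiliser of the weights in the Weyl group. -/
noncomputable def stabSet (g : T.Good) (d : ℕ → Fˣ) : Finset (Equiv.Perm (Fin T.n)) := by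
  classical
  exact Finset.univ.filter fun p => p ∈ wG g ∧ ∀ r : Fin T.n, wt T F d (p r) = wt T F d r

theorem mem_stabSet (g : T.Good) {d : ℕ → Fˣ} {p : Equiv.Perm (Fin T.n)} :
    p ∈ stabSet T g d ↔ p ∈ wG g ∧ ∀ r : Fin T.n, wt T F d (p r) = wt T F d r := by
  simp [stabSet]

variable (T) in
/-- The number of fixed positive roots inverted by `p`. -/
noncomputable def hInv (d : ℕ → Fˣ) (p : Equiv.Perm (Fin T.n)) : ℕ :=
  Nat.card {r : Fin T.n // (T.N ≤ (r : ℕ) ∧ wt T F d r = 1) ∧ (p r : ℕ) < T.N}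

/-- `|C(h)| = |H| q^{N_h} Σ q^{ℓ_h(w)}`. -/
theorem card_centralizer (g : T.GoodK K) [Fintype F] (d : ℕ → Fˣ) :
    Nat.card ↥(T.D.group F ⊓ Subgroup.centralizer {tor T F d}) =
      Nat.card (T.D.diagonalSubgroup F) * Fintype.card F ^ Nat.card (posZ T d) *
        ∑ p ∈ stabSet T g.toGood d, Fintype.card F ^ hInv T d p := by
  classical
  have hg := g.toGood
  have hA := g.toGoodA
  let Lw : ↥(stabSet T hg d) → List ℕ := fun w => ((mem_stabSet hg).1 w.2).1.choose
  have hLw : ∀ w, T.Wd (Lw w) ∧ pL hg (Lw w) = (w : Equiv.Perm (Fin T.n)) := fun w =>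
    ((mem_stabSet hg).1 w.2).1.choose_spec
  let iS : List ℕ → Set ℕ := fun L => {r | T.N ≤ r ∧ r < T.n ∧ T.rw' L r < T.N}
  let C := T.D.group F ⊓ Subgroup.centralizer {tor T F d}
  have memC : ∀ {y}, y ∈ C ↔ y ∈ T.D.group F ∧ tor T F d * y * (tor T F d)⁻¹ = y := fun {y} => by
    simp only [C, Subgroup.mem_inf, Subgroup.mem_centralizer_singleton_iff, mul_inv_eq_iff_eq_mul]
    exact and_congr_right fun _ => eq_comm
  have hclpos : Cl T (Set.Ico T.N T.n) := cl_pos hg
  have hposH : posZ T d = Set.Ico T.N T.n ∩ posZ T d :=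
    (Set.inter_eq_right.2 fun r hr => hr.1).symm
  have hstab : ∀ w : ↥(stabSet T hg d), nWd hg F (Lw w) * tor T F d * (nWd hg F (Lw w))⁻¹ = tor T F d := by
    intro w
    refine nWd_fix hg (hLw w).1 fun r hr => ?_
    have := ((mem_stabSet hg).1 w.2).2 ⟨r, hr⟩
    rw [← (hLw w).2, pL_apply hg (hLw w).1] at this
    exact this
  have htor : ∀ c, tor T F d * tor T F c * (tor T F d)⁻¹ = tor T F c := fun c => by
    rw [← map_inv, ← map_mul, ← map_mul, mul_comm d, mul_inv_cancel_right]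
  let f : (Σ w : ↥(stabSet T hg d), ↥(genS hg F (posZ T d)) × ↥(T.D.diagonalSubgroup F) ×
      ↥(genS hg F (iS (Lw w) ∩ posZ T d))) → ↥C := fun p =>
    ⟨(p.2.1 : GL T.D.Idx F) * p.2.2.1 * nWd hg F (Lw p.1) * p.2.2.2, by
      obtain ⟨w, ⟨u, hu⟩, ⟨t, ht⟩, ⟨v, hv⟩⟩ := p
      rw [memC]
      rw [diagonalSubgroup_eq hg] at ht
      obtain ⟨c, rfl⟩ := ht
      rw [hposH] at hu
      obtain ⟨hu1, hu2⟩ := (fixed_iff hA d hclpos).2 hu
      obtain ⟨hv1, hv2⟩ := (fixed_iff hA d (cl_inv g (hLw w).1)).2 hv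
      refine ⟨mul_mem (mul_mem (mul_mem (borel_le_group hg (genS_pos_le_borel hg (fun r hr => hr) hu1))
        (tor_mem_group hg c)) (monomial_le_group hg ((mem_monomial_iff hg).2 ⟨_, (hLw w).1, 1, by simp⟩)))
        (borel_le_group hg (genS_pos_le_borel hg (fun r hr => hr) (uMinus_le_pos hg _ hv1))), ?_⟩
      have hn : tor T F d * nWd hg F (Lw w) * (tor T F d)⁻¹ = nWd hg F (Lw w) := by
        rw [mul_inv_eq_iff_eq_mul]
        exact (mul_inv_eq_iff_eq_mul.1 (hstab w)).symm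
      calc tor T F d * (u * tor T F c * nWd hg F (Lw w) * v) * (tor T F d)⁻¹
          = (tor T F d * u * (tor T F d)⁻¹) * (tor T F d * tor T F c * (tor T F d)⁻¹) *
              (tor T F d * nWd hg F (Lw w) * (tor T F d)⁻¹) * (tor T F d * v * (tor T F d)⁻¹) := by group
        _ = _ := by rw [hu2, htor, hn, hv2]⟩
  have hf : Function.Bijective f := by
    constructor
    · rintro ⟨w, ⟨u, hu⟩, ⟨t, ht⟩, ⟨v, hv⟩⟩ ⟨w', ⟨u', hu'⟩, ⟨t', ht'⟩, ⟨v', hv'⟩⟩ h
      have hn := (mem_monomial_iff (F := F) hg).2 ⟨Lw w, (hLw w).1, 1, rfl⟩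
      have hn' := (mem_monomial_iff (F := F) hg).2 ⟨Lw w', (hLw w').1, 1, rfl⟩
      have hUB : ∀ {u}, u ∈ genS hg F (posZ T d) → u ∈ T.D.borelSubgroup F :=
        fun h => genS_pos_le_borel hg (fun r (hr : r ∈ posZ T d) => hr.1) h
      have h' : u * t * (tor T F 1 * nWd hg F (Lw w)) * v = u' * t' * (tor T F 1 * nWd hg F (Lw w')) * v' := by
        simpa [f] using congrArg Subtype.val h
      obtain ⟨hd, hsame⟩ := bruhat_unique hA
        (mul_mem (hUB hu) (Subgroup.mem_sup_right ht)) (mul_mem (hUB hu') (Subgroup.mem_sup_right ht'))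
        hn hn' (hLw w).1 rfl (genS_mono hg Set.inter_subset_left hv) (genS_mono hg Set.inter_subset_left hv') h'
      rw [diagonalSubgroup_eq hg, map_one, one_mul, one_mul] at hd
      obtain ⟨d', hd⟩ := hd
      obtain ⟨e, he⟩ := torus_pass hg (nWd_mem_wSub (F := F) hg (hLw w).1) d' 
      obtain rfl : w = w' := Subtype.ext (by
        rw [← (hLw w).2, ← (hLw w').2, pL_eq_iff hg (hLw w).1 (hLw w').1]
        exact fun s hs => rw'_of_nWd_eq hg (hLw w).1 (hLw w').1 (c := e) (d := 1)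
          (by rw [← he, hd, map_one, one_mul, mul_inv_cancel_left]) hs)
      obtain ⟨hb, rfl⟩ := hsame rfl rfl
      obtain rfl : u = u' := inv_mul_eq_one.1 (pos_inf_torus hg (x := u⁻¹ * u')
        (genS_mono hg (fun r (hr : r ∈ posZ T d) => hr.1) (mul_mem (inv_mem hu) hu'))
        (by rw [show u⁻¹ * u' = t * t'⁻¹ by
              calc u⁻¹ * u' = u⁻¹ * (u' * t') * t'⁻¹ := by group
                _ = _ := by rw [← hb]; group]
            exact mul_mem ht (inv_mem ht')))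
      obtain rfl : t = t' := mul_left_cancel hb
      rfl
    · rintro ⟨x, hx⟩
      obtain ⟨hxG, hxc⟩ := memC.1 hx
      obtain ⟨b, hb, n, hn, L, hL, ⟨c, rfl⟩, v, hv, rfl⟩ := bruhat_exists hA hxG
      obtain ⟨u, hu, c1, rfl⟩ := (mem_borel_iff hg).1 hb
      obtain ⟨h, hh⟩ : ∃ h, h = tor T F d := ⟨_, rfl⟩
      rw [← hh] at hxc
      obtain ⟨e, he⟩ : ∃ e, h * nWd hg F L * h⁻¹ = tor T F e * nWd hg F L := by
        obtain ⟨d', hd'⟩ := torus_pass hg (nWd_mem_wSub (F := F) hg hL) d⁻¹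
        refine ⟨d * d', ?_⟩
        rw [hh, ← map_inv, mul_assoc, hd', map_mul, mul_assoc]
      have hUn : ∀ {S : Set ℕ}, (∀ r ∈ S, r < T.n) → ∀ y ∈ genS hg F S, h * y * h⁻¹ ∈ genS hg F S :=
        fun hS y hy => hh ▸ (Subgroup.mem_normalizer_iff.1 (tor_normalizes hg hS _) y).1 hy
      have hhu := hUn (fun r hr => hr.2) u hu
      have hhv := hUn (fun r hr => hr.2.1) v hv
      have hN : tor T F 1 * nWd hg F L ∈ T.D.monomialSubgroup F := (mem_monomial_iff hg).2 ⟨L, hL, 1, rfl⟩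
      have heq : h * u * h⁻¹ * tor T F (c1 * c * e) * (tor T F 1 * nWd hg F L) * (h * v * h⁻¹) =
          u * tor T F (c1 * c) * (tor T F 1 * nWd hg F L) * v := by
        rw [map_one, one_mul]
        calc _ = h * u * h⁻¹ * (h * tor T F (c1 * c) * h⁻¹) * (tor T F e * nWd hg F L) * (h * v * h⁻¹) := by
              rw [hh, htor, map_mul (tor T F) _ e]; simp only [mul_assoc]
          _ = h * (u * tor T F c1 * (tor T F c * nWd hg F L) * v) * h⁻¹ := by
              rw [← he, map_mul]; group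
          _ = _ := by rw [hxc, map_mul]; simp only [mul_assoc]
      obtain ⟨hb', hv2⟩ := (bruhat_unique hA
        (mul_mem (genS_pos_le_borel hg (fun r hr => hr) hhu) (torus_le_borel hg _))
        (mul_mem (genS_pos_le_borel hg (fun r hr => hr) hu) (torus_le_borel hg _))
        hN hN hL rfl hhv hv heq).2 rfl rfl
      have hu2 : h * u * h⁻¹ = u := (inv_mul_eq_one.1 (pos_inf_torus hg (x := u⁻¹ * (h * u * h⁻¹))
        (mul_mem (inv_mem hu) hhu)
        (by rw [show u⁻¹ * (h * u * h⁻¹) = tor T F (c1 * c) * (tor T F (c1 * c * e))⁻¹ by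
              calc u⁻¹ * (h * u * h⁻¹) = u⁻¹ * (h * u * h⁻¹ * tor T F (c1 * c * e)) *
                    (tor T F (c1 * c * e))⁻¹ := by group
                _ = _ := by rw [hb']; group,
              diagonalSubgroup_eq hg]
            exact mul_mem ⟨_, rfl⟩ (inv_mem ⟨_, rfl⟩)))).symm
      rw [hu2, map_mul (tor T F) _ e] at hb'
      have he1 : tor T F e = 1 := mul_eq_left.1 (mul_left_cancel hb')
      rw [he1, one_mul] at he
      have hpar : ∀ r < T.n, wt T F d (T.rw' L r) = wt T F d r := by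
        intro r hr
        obtain ⟨ε, -, hε⟩ := nWd_conj (F := F) hg hL hr
        have h1 : h * xg hg (T.rw' L r) (ε : F) * h⁻¹ =
            nWd hg F L * (h * xg hg r (1 : F) * h⁻¹) * (nWd hg F L)⁻¹ := by
          calc h * xg hg (T.rw' L r) (ε : F) * h⁻¹
              = h * (nWd hg F L * xg hg r (1 : F) * (nWd hg F L)⁻¹) * h⁻¹ := by rw [(hε 1).1, mul_one]
            _ = (h * nWd hg F L * h⁻¹) * (h * xg hg r (1 : F) * h⁻¹) * (h * nWd hg F L * h⁻¹)⁻¹ := by group
            _ = _ := by rw [he]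
        rw [hh, tor_xg hg _ (rw'_lt hg hL hr), tor_xg hg _ hr, (hε _).1] at h1
        have h3 := xg_injective hg (rw'_lt hg hL hr) h1
        refine Units.ext ?_
        have := Units.ne_zero ε
        field_simp at h3
        exact h3
      let w : ↥(stabSet T hg d) := ⟨pL hg L, (mem_stabSet hg).2 ⟨⟨L, hL, rfl⟩, fun r => by
        rw [pL_apply hg hL]; exact hpar r r.2⟩⟩
      have hagree := (pL_eq_iff hg (hLw w).1 hL).1 (hLw w).2
      obtain ⟨dd, hd⟩ : ∃ dd, nWd hg F L = tor T F dd * nWd hg F (Lw w) := by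
        obtain ⟨⟨d1, hd1⟩, -⟩ := nWd_torus_of_pos (F := F) hg _ le_rfl
          (L := L ++ (Lw w).reverse) (Wd.append_iff.2 ⟨hL, (hLw w).1.reverse⟩) (fun s h1 h2 => by
            have e := rw'_rev' hg (hLw w).1 h2
            rw [hagree _ (rw'_lt hg (hLw w).1.reverse h2)] at e
            rw [rw'_append, e]
            exact h1)
        obtain ⟨⟨d2, hd2⟩, -⟩ := nWd_torus_of_pos (F := F) hg _ le_rfl
          (L := Lw w ++ (Lw w).reverse) (Wd.append_iff.2 ⟨(hLw w).1, (hLw w).1.reverse⟩) (fun s h1 h2 => by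
            rw [rw'_append, rw'_rev' hg (hLw w).1 h2]; exact h1)
        refine ⟨d1 * d2⁻¹, ?_⟩
        rw [nWd_append] at hd1 hd2
        rw [map_mul, map_inv, ← hd1, ← hd2]
        group
      have hvw : v ∈ genS hg F (iS (Lw w) ∩ posZ T d) := by
        refine (fixed_iff hA d (cl_inv g (hLw w).1)).1 ⟨?_, by rw [← hh]; exact hv2⟩
        show v ∈ uMinus hg F (Lw w)
        rw [uMinus_congr hg hagree]
        exact hv
      have huH : u ∈ genS hg F (posZ T d) := by
        rw [hposH]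
        exact (fixed_iff hA d hclpos).1 ⟨hu, by rw [← hh]; exact hu2⟩
      refine ⟨⟨w, ⟨u, huH⟩, ⟨tor T F (c1 * c * dd), by rw [diagonalSubgroup_eq hg]; exact ⟨_, rfl⟩⟩,
        ⟨v, hvw⟩⟩, Subtype.ext ?_⟩
      show u * tor T F (c1 * c * dd) * nWd hg F (Lw w) * v =
        u * tor T F c1 * (tor T F c * nWd hg F L) * v
      rw [hd, map_mul, map_mul]
      simp only [mul_assoc]
  rw [← Nat.card_eq_of_bijective f hf, Nat.card_sigma, Finset.mul_sum,
    ← Finset.sum_coe_sort (stabSet T hg d)]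
  refine Finset.sum_congr rfl fun w _ => ?_
  have hcl : Cl T (iS (Lw w) ∩ posZ T d) := (cl_inv g (hLw w).1).inter (cl_posZ hg d)
  rw [Nat.card_prod, Nat.card_prod, card_genS hA (cl_posZ hg d), card_genS hA hcl]
  have hwv : ∀ r : Fin T.n, ((w : Equiv.Perm (Fin T.n)) r : ℕ) = T.rw' (Lw w) r := fun r => by
    rw [← pL_apply hg (hLw w).1, (hLw w).2]
  have hcard : Nat.card ↥(iS (Lw w) ∩ posZ T d) = hInv T d (w : Equiv.Perm (Fin T.n)) := by
    refine Nat.card_congr
      { toFun := fun r => ⟨⟨r.1, r.2.2.1.2⟩, ⟨r.2.2.1.1, r.2.2.2⟩, ?_⟩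
        invFun := fun r => ⟨r.1, ⟨r.2.1.1, r.1.2, ?_⟩, ⟨r.2.1.1, r.1.2⟩, r.2.1.2⟩
        left_inv := fun _ => rfl
        right_inv := fun _ => rfl }
    · rw [hwv]; exact r.2.1.2.2
    · have := r.2.2
      rwa [hwv] at this
  rw [hcard]
  ring

end Cfsg.Agent.MinDegreeG2.TorCent
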