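/-
The Weyl group of `G₂` and the centraliser of a torus element of order three.
-/
import Cfsg.Agent.Lib.MinDegree.G2.Base
import Cfsg.Agent.Lib.MinDegree.G2.TorCent
import Cfsg.Agent.Lib.ChevOdd.G2Cent

set_option autoImplicit false
set_option maxRecDepth 20000

namespace Cfsg.Agent.MinDegreeG2

open Cfsg.Lie Cfsg.Agent.Chev Cfsg.Agent.Chev.Tab

/-- reduced words -/
def wds : List (List ℕ) :=
  [[], [0], [1], [0, 1], [1, 0], [0, 1, 0], [1, 0, 1], [0, 1, 0, 1], [1, 0, 1, 0], [0, 1, 0, 1, 0],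
    [1, 0, 1, 0, 1], [0, 1, 0, 1, 0, 1]]

/-- the reduced word with the given number -/
def wrd (j : Fin 12) : List ℕ := wds.getD j []

theorem wrd_Wd : ∀ (j : Fin 12), G2Data.tab.Wd (wrd j) := by
  intro j i hi
  have h : ∀ j : Fin 12, (wrd j).all (fun i => decide (i < 2)) = true := by decide +kernel
  have := List.all_eq_true.1 (h j) i hi
  exact of_decide_eq_true this

theorem wrd_step : ∀ i < 2, ∀ j : Fin 12, ∃ j' : Fin 12, ∀ s < 12,
    G2Data.tab.rw' (i :: wrd j) s = G2Data.tab.rw' (wrd j') s := by decide +kernel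

theorem exists_wrd : ∀ {L : List ℕ}, G2Data.tab.Wd L → ∃ j : Fin 12, ∀ s < 12,
    G2Data.tab.rw' L s = G2Data.tab.rw' (wrd j) s
  | [], _ => ⟨0, fun _ _ => rfl⟩
  | i :: L, h => by
    obtain ⟨hi, hL⟩ := Wd.cons_iff.1 h
    obtain ⟨j, hj⟩ := exists_wrd hL
    obtain ⟨j', hj'⟩ := wrd_step i hi j
    exact ⟨j', fun s hs => by rw [← hj' s hs, rw'_cons, rw'_cons, hj s hs]⟩

theorem wrd_inj : ∀ j j' : Fin 12, (∀ s < 12, G2Data.tab.rw' (wrd j) s = G2Data.tab.rw' (wrd j') s) → j = j' := by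
  decide +kernel

/-- the twelve elements of the Weyl group -/
noncomputable def wElt (j : Fin 12) : ↥(wG g0) := ⟨pL g0 (wrd j), wrd j, wrd_Wd j, rfl⟩

theorem wElt_bijective : Function.Bijective wElt := by
  constructor
  · intro j j' h
    exact wrd_inj j j' ((pL_eq_iff g0 (wrd_Wd j) (wrd_Wd j')).1 (congrArg Subtype.val h))
  · rintro ⟨p, L, hL, rfl⟩
    obtain ⟨j, hj⟩ := exists_wrd hL
    exact ⟨j, Subtype.ext ((pL_eq_iff g0 (wrd_Wd j) hL).2 fun s hs => (hj s hs).symm)⟩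

variable {F : Type*} [Field F]

theorem zpow_three {u : Fˣ} (hu : u ^ 3 = 1) (hu1 : u ≠ 1) (m n : ℤ) : u ^ m = u ^ n ↔ (m - n) % 3 = 0 := by
  have ho : orderOf u = 3 := orderOf_eq_prime hu hu1
  rw [zpow_eq_zpow_iff_modEq, ho, Int.ModEq]
  omega

theorem wt_omega (u : Fˣ) (r : ℕ) : wt G2Data.tab F (co u 1) r = u ^ G2Data.tab.A 0 r := by
  rw [wt_co, kk, one_zpow, mul_one]

/-- the word preserves the residues -/
def stabB (j : Fin 12) : Bool :=
  (List.range 12).all fun r => (G2Data.tab.A 0 (G2Data.tab.rw' (wrd j) r) - G2Data.tab.A 0 r) % 3 == 0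

theorem stabB_iff {j : Fin 12} : stabB j = true ↔
    ∀ r < 12, (G2Data.tab.A 0 (G2Data.tab.rw' (wrd j) r) - G2Data.tab.A 0 r) % 3 = 0 := by
  simp only [stabB, List.all_eq_true, List.mem_range, beq_iff_eq]

/-- the number of inverted fixed roots -/
def invN (j : Fin 12) : ℕ :=
  (Finset.univ.filter fun r : Fin 12 =>
    (6 ≤ (r : ℕ) ∧ G2Data.tab.A 0 r % 3 = 0) ∧ G2Data.tab.rw' (wrd j) r < 6).card

theorem stab_sum (q : ℕ) : ∑ j : Fin 12, (if stabB j then q ^ invN j else 0) = 1 + 2 * q + 2 * q ^ 2 + q ^ 3 := by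

  have e : ((Finset.univ : Finset (Fin 12)).filter fun j => stabB j = true).val.map invN = {0, 1, 1, 2, 2, 3} := by
    decide +kernel
  rw [← Finset.sum_filter, Finset.sum_eq_multiset_sum,
    show (fun j => q ^ invN j) = (fun n => q ^ n) ∘ invN from rfl, ← Multiset.map_map, e]
  simp [Multiset.insert_eq_cons]
  ring

/-- The centraliser of an element of order three of the torus. -/
theorem card_centralizer_omega [Fintype F] {u : Fˣ} (hu : u ^ 3 = 1) (hu1 : u ≠ 1) :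
    Nat.card ↥(G2Data.tab.D.group F ⊓ Subgroup.centralizer {tor G2Data.tab F (co u 1)}) =
      Nat.card (G2Data.tab.D.diagonalSubgroup F) * Fintype.card F ^ 3 *
        (1 + 2 * Fintype.card F + 2 * Fintype.card F ^ 2 + Fintype.card F ^ 3) := by
  classical
  have hwt : ∀ r s, wt G2Data.tab F (co u 1) r = wt G2Data.tab F (co u 1) s ↔
      (G2Data.tab.A 0 r - G2Data.tab.A 0 s) % 3 = 0 := fun r s => by
    rw [wt_omega, wt_omega, zpow_three hu hu1]
  have hone : ∀ r, wt G2Data.tab F (co u 1) r = 1 ↔ G2Data.tab.A 0 r % 3 = 0 := fun r => by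
    rw [wt_omega, ← zpow_zero u, zpow_three hu hu1, sub_zero]
  rw [TorCent.card_centralizer ChevOdd.G2.goodK (co u 1)]
  congr 1
  · congr 2
    have e : TorCent.posZ G2Data.tab (co u 1) = ↑({6, 10, 11} : Finset ℕ) := by
      have h : ∀ r < 12, (6 ≤ r ∧ G2Data.tab.A 0 r % 3 = 0) ↔ r ∈ ({6, 10, 11} : Finset ℕ) := by decide +kernel
      ext r
      simp only [TorCent.posZ, Set.mem_ofPred_eq, hone, Finset.mem_coe]
      constructor
      · rintro ⟨⟨h1, h2⟩, h3⟩
        exact (h r h2).1 ⟨h1, h3⟩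
      · intro hr
        have hr12 : r < 12 := by
          simp only [Finset.mem_insert, Finset.mem_singleton] at hr
          omega
        exact ⟨⟨((h r hr12).2 hr).1, hr12⟩, ((h r hr12).2 hr).2⟩
    rw [e, Nat.card_coe_set_eq, Set.ncard_coe_finset]
    rfl
  · rw [← stab_sum, ← Finset.sum_filter]
    refine (Finset.sum_bij (fun j _ => (wElt j : Equiv.Perm (Fin G2Data.tab.n))) (fun j hj => ?_)
      (fun a _ b _ e => wElt_bijective.1 (Subtype.ext e)) (fun p hp => ?_) fun j _ => ?_).symm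
    · refine (TorCent.mem_stabSet _).2 ⟨(wElt j).2, fun r => ?_⟩
      rw [hwt, show ((wElt j : Equiv.Perm (Fin G2Data.tab.n)) r : ℕ) = G2Data.tab.rw' (wrd j) r from
        pL_apply g0 (wrd_Wd j) r]
      exact stabB_iff.1 (Finset.mem_filter.1 hj).2 r r.2
    · obtain ⟨hp1, hp2⟩ := (TorCent.mem_stabSet _).1 hp
      obtain ⟨j, hj⟩ := wElt_bijective.2 ⟨p, hp1⟩
      obtain rfl : (wElt j : Equiv.Perm (Fin G2Data.tab.n)) = p := congrArg Subtype.val hj
      refine ⟨j, Finset.mem_filter.2 ⟨Finset.mem_univ _, stabB_iff.2 fun r hr => ?_⟩, rfl⟩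
      have := hp2 ⟨r, hr⟩
      rwa [hwt, show ((wElt j : Equiv.Perm (Fin G2Data.tab.n)) ⟨r, hr⟩ : ℕ) = G2Data.tab.rw' (wrd j) r from
        pL_apply g0 (wrd_Wd j) ⟨r, hr⟩] at this
    · rw [invN, TorCent.hInv, Nat.card_eq_fintype_card, Fintype.card_subtype]
      congr 2
      refine Finset.ext fun (r : Fin 12) => ?_
      have e : ((wElt j : Equiv.Perm (Fin G2Data.tab.n)) r : ℕ) = G2Data.tab.rw' (wrd j) r :=
        pL_apply g0 (wrd_Wd j) r
      refine (Finset.mem_filter.trans ?_).trans Finset.mem_filter.symm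
      rw [e, hone]
      rfl

end Cfsg.Agent.MinDegreeG2
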