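/-
The value at an element of order three of the torus excludes the degree `q³ - 1` for `q ≡ 1 (mod 3)`.
-/
import Cfsg.Agent.Lib.MinDegree.G2.NotThree
import Cfsg.Agent.Lib.MinDegree.G2.Weyl
import Cfsg.Agent.Lib.Char.Integral
import Cfsg.Agent.S1059
import Mathlib.RingTheory.RootsOfUnity.Complex

set_option autoImplicit false
set_option maxRecDepth 20000

namespace Cfsg.Agent.MinDegreeG2

open LinearMap Module Cfsg.Lie Cfsg.Agent.Chev Cfsg.Agent.Chev.Tab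

variable {F : Type*} [Field F] [Fintype F]

theorem card_diag : Nat.card (G2Data.tab.D.diagonalSubgroup F) = (Fintype.card F - 1) ^ 2 := by
  have h := card_diagonal_mul (F := F) g0 G2Data.torOK
  rw [show G2Data.cert.k = 0 from rfl, show G2Data.tab.l = 2 from rfl, pow_zero, one_mul] at h
  exact h

theorem index_omega {u : Fˣ} (hu : u ^ 3 = 1) (hu1 : u ≠ 1) (hq : 2 ≤ Fintype.card F) :
    (Subgroup.centralizer ({hh u 1} : Set (Gr F))).index =
      Fintype.card F ^ 3 * (Fintype.card F ^ 3 + 1) := by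
  obtain ⟨q, hqe⟩ : ∃ q, q = Fintype.card F := ⟨_, rfl⟩
  have hc : Nat.card ↥(Subgroup.centralizer ({hh u 1} : Set (Gr F))) =
      (q - 1) ^ 2 * q ^ 3 * (1 + 2 * q + 2 * q ^ 2 + q ^ 3) := by
    rw [hqe, ← card_diag, ← card_centralizer_omega hu hu1,
      ← Subgroup.card_map_of_injective (K := Subgroup.centralizer ({hh u 1} : Set (Gr F)))
        (f := (G2Data.tab.D.group F).subtype) (Subgroup.subtype_injective _)]
    refine congrArg (fun H : Subgroup (GL G2Data.tab.D.Idx F) => Nat.card H) (Subgroup.ext fun y => ?_)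
    simp only [Subgroup.mem_map, Subgroup.mem_inf, Subgroup.mem_centralizer_singleton_iff, Subgroup.coe_subtype]
    constructor
    · rintro ⟨x, hx, rfl⟩
      exact ⟨x.2, congrArg Subtype.val hx⟩
    · rintro ⟨h1, h2⟩
      exact ⟨⟨y, h1⟩, Subtype.ext h2, rfl⟩
  have h := (Subgroup.centralizer ({hh u 1} : Set (Gr F))).card_mul_index
  rw [hc, show Nat.card (Gr F) = q ^ 6 * (q ^ 2 - 1) * (q ^ 6 - 1) from S1059.result hqe.symm] at h
  rw [← hqe] at hq ⊢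
  obtain ⟨t, rfl⟩ : ∃ t, q = t + 2 := ⟨q - 2, by omega⟩
  rw [show t + 2 - 1 = t + 1 from rfl] at h
  refine Nat.eq_of_mul_eq_mul_left (by positivity) (h.trans ?_)
  rw [show (t + 2) ^ 2 - 1 = (t + 1) * (t + 3) from Nat.sub_eq_of_eq_add (by ring),
    show (t + 2) ^ 6 - 1 = (t + 1) * ((t + 2) ^ 5 + (t + 2) ^ 4 + (t + 2) ^ 3 + (t + 2) ^ 2 + (t + 2) + 1) from
      Nat.sub_eq_of_eq_add (by ring)]
  ring

namespace Rp

variable {W : Type*} [AddCommGroup W] [Module ℂ W] [FiniteDimensional ℂ W] (S : Rp F W)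

omit [Fintype F] in
theorem hh_mul_cube {u : Fˣ} (hu : u ^ 3 = 1) : (hh u 1 : Gr F) * (hh u 1 * hh u 1) = 1 := by
  rw [← hh_mul, ← hh_mul, one_mul, one_mul, show u * (u * u) = 1 by rw [← hu, pow_three], hh_one]

omit [Fintype F] [FiniteDimensional ℂ W] in
theorem maps_hh (c0 c1 : Fˣ) (L : List (ℕ × F)) (hL : ∀ p ∈ L, p.1 < 12 ∧ p.2 * ((kk c0 c1 p.1 : F) - 1) = 0)
    {w : W} (hw : w ∈ S.C.Eg L) : S.f (hh c0 c1) w ∈ S.C.Eg L := by
  refine S.C.maps _ (fun w hw p hp t => ?_) hw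
  show S.f _ w = _
  obtain ⟨h1, h2⟩ := hL p hp
  rw [show S.C.x p.1 = xr p.1 from rfl, hh_conj_inv c0 c1 h1, S.ev hw hp]
  congr 2
  linear_combination (-(((kk c0 c1 p.1)⁻¹ : Fˣ) : F) * t) * h2 + (p.2 * t) * (Units.inv_mul (kk c0 c1 p.1))

/-- the scalar by which the element of order three acts on a line -/
theorem line {u : Fˣ} (hu : u ^ 3 = 1) (L : List (ℕ × F)) (hg : S.C.Good L) (hD : S.C.D L = 1)
    (hL : ∀ p ∈ L, p.1 < 12 ∧ p.2 * ((kk u 1 p.1 : F) - 1) = 0) :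
    (S.C.T (hh u 1) L) ^ 3 = 1 ∧ ∀ w ∈ S.C.Eg L, S.f (hh u 1) w = S.C.T (hh u 1) L • w := by
  obtain ⟨v, hv, hv0⟩ := S.C.exists_ne_zero (L := L) (by rw [hD]; exact one_ne_zero)
  obtain ⟨θ, hθ⟩ := S.C.exists_smul hD hv hv0 (S.maps_hh u 1 L hL hv)
  have hall : ∀ w ∈ S.C.Eg L, S.f (hh u 1) w = θ • w := fun w hw => by
    obtain ⟨c, rfl⟩ := S.C.exists_smul hD hv hv0 hw
    rw [map_smul, hθ, smul_comm]
  have hT : S.C.T (hh u 1) L = θ := by rw [S.C.T_scalar hg hall, hD, Nat.cast_one, mul_one]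
  rw [hT]
  refine ⟨?_, hall⟩
  have h : S.f (hh u 1 * (hh u 1 * hh u 1)) v = v := by rw [hh_mul_cube hu, map_one, Module.End.one_apply]
  rw [map_mul, map_mul, Module.End.mul_apply, Module.End.mul_apply, hθ, map_smul, hθ, map_smul, map_smul, hθ,
    smul_smul, smul_smul] at h
  exact smul_left_injective ℂ hv0 (show θ ^ 3 • v = (1 : ℂ) • v by
    rw [one_smul, show θ ^ 3 = θ * θ * θ by ring]; exact h)

/-- A commuting element carries one line to the other. -/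
theorem line_move {u : Fˣ} (hu : u ^ 3 = 1) {L L' : List (ℕ × F)} (hg : S.C.Good L) (hD : S.C.D L = 1)
    (hg' : S.C.Good L') (hD' : S.C.D L' = 1) (hL : ∀ p ∈ L, p.1 < 12 ∧ p.2 * ((kk u 1 p.1 : F) - 1) = 0)
    (hL' : ∀ p ∈ L', p.1 < 12 ∧ p.2 * ((kk u 1 p.1 : F) - 1) = 0) (h : Gr F) (hc : Commute (hh u 1) h)
    (hm : ∀ w ∈ S.C.Eg L, S.f h w ∈ S.C.Eg L') : S.C.T (hh u 1) L' = S.C.T (hh u 1) L := by
  obtain ⟨v, hv, hv0⟩ := S.C.exists_ne_zero (L := L) (by rw [hD]; exact one_ne_zero)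
  have h1 := (S.line hu L' hg' hD' hL').2 _ (hm v hv)
  rw [← Module.End.mul_apply, ← map_mul, hc.eq, map_mul, Module.End.mul_apply, (S.line hu L hg hD hL).2 v hv,
    map_smul] at h1
  refine (smul_left_injective ℂ (fun e => hv0 ?_) h1).symm
  rw [← S.C.f_inv_mul h v, show S.C.f h v = 0 from e, map_zero]

omit [Fintype F] [FiniteDimensional ℂ W] in
theorem maps_scale (c0 c1 : Fˣ) (L L' : List (ℕ × F))
    (hL : ∀ p ∈ L', p.1 < 12 ∧ (p.1, p.2 * (kk c0 c1 p.1 : F)) ∈ L) {w : W} (hw : w ∈ S.C.Eg L) :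
    S.f (hh c0 c1) w ∈ S.C.Eg L' := by
  refine S.C.maps _ (fun w hw p hp t => ?_) hw
  show S.f _ w = _
  rw [show S.C.x p.1 = xr p.1 from rfl, hh_conj_inv c0 c1 (hL p hp).1, S.ev hw (hL p hp).2, mul_assoc,
    Units.mul_inv_cancel_left]

theorem T_kill {u : Fˣ} {r : ℕ} (hr : r < 12) {s : F} (hs : s * ((kk u 1 r : F) - 1) ≠ 0) {L : List (ℕ × F)}
    (hg : S.C.Good ((r, s) :: L)) (hL : ∀ p ∈ L, p.1 < 12 ∧ p.2 * ((kk u 1 p.1 : F) - 1) = 0) :
    S.C.T (hh u 1) ((r, s) :: L) = 0 := by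
  refine S.C.T_moved (s' := s * ((kk u 1 r)⁻¹ : Fˣ)) (fun e => hs ?_) hg
    (fun w hw => (S.C.mem_cons).2 ⟨fun t => ?_, S.maps_hh u 1 L hL ((S.C.mem_cons).1 hw).2⟩)
  · linear_combination (-(kk u 1 r : F)) * e + s * Units.inv_mul (kk u 1 r)
  · show S.f (xr r t) (S.f (hh u 1) w) = _
    rw [← Module.End.mul_apply, ← map_mul, show xr r t * hh u 1 = hh u 1 * ((hh u 1)⁻¹ * xr r t * hh u 1) by group,
      map_mul, Module.End.mul_apply, hh_conj_inv u 1 hr, ((S.C.mem_cons).1 hw).1, map_smul, ← mul_assoc]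

variable (h3 : (3 : F) ≠ 0) (hq : 5 ≤ Fintype.card F) (h1 : S.C.D [(8, 0), (6, 0), (11, 1)] = 1)

include h3 hq h1 in
theorem trace_omega {u : Fˣ} (hu : u ^ 3 = 1) (hu1 : u ≠ 1) (h0 : S.n 0 0 0 0 = 0) :
    ∃ e θ θ' : ℂ, e ^ 3 = 1 ∧ θ ^ 3 = 1 ∧ θ' ^ 3 = 1 ∧ trace ℂ W (S.f (hh u 1)) =
      ((Fintype.card F - 1 : ℕ) : ℂ) * ((Fintype.card F : ℂ) * e + θ + θ') := by
  classical
  obtain ⟨k6, k8, k9, k10, k11⟩ : kk u 1 6 = 1 ∧ kk u 1 8 = u⁻¹ ∧ kk u 1 9 = u ∧ kk u 1 10 = 1 ∧ kk u 1 11 = 1 := by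
    obtain ⟨-, -, t6, -, t8, t9, t10, t11⟩ := kk_table u 1
    exact ⟨by rw [t6, hu]; simp, by rw [t8, mul_one], t9, by rw [t10, hu]; simp, t11⟩
  have hu' : ((u⁻¹ : Fˣ) : F) - 1 ≠ 0 := sub_ne_zero.2 fun e => hu1 (by
    have e' : u⁻¹ = 1 := Units.ext e
    exact inv_eq_one.1 e')
  have hu'' : (u : F) - 1 ≠ 0 := sub_ne_zero.2 fun e => hu1 (Units.ext e)
  -- the lines
  let Ls : F → F → List (ℕ × F) := fun s a => [(8, 0), (6, a), (11, s)]
  let La : F → List (ℕ × F) := fun a => [(10, 0), (9, 0), (8, 0), (6, a), (11, 0)]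
  let Ld : F → List (ℕ × F) := fun d => [(10, d), (9, 0), (8, 0), (6, 0), (11, 0)]
  have gs : ∀ b a s, S.C.Good [(8, b), (6, a), (11, s)] := fun b a s =>
    S.good_comm [(8, b), (6, a), (11, s)] (by simp only [List.map_cons, List.map_nil]; decide +kernel)
  have g5 : ∀ a b c d, S.C.Good [(10, d), (9, c), (8, b), (6, a), (11, 0)] := fun a b c d =>
    S.good_top [(10, d), (9, c), (8, b), (6, a)] (by simp only [List.map_cons, List.map_nil]; decide +kernel)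
  have ds : ∀ {s}, s ≠ 0 → ∀ a, S.C.D (Ls s a) = 1 := fun hs a => (S.flat h3 hs a 0).trans h1
  have fs : ∀ s a, ∀ p ∈ Ls s a, p.1 < 12 ∧ p.2 * ((kk u 1 p.1 : F) - 1) = 0 := fun s a => by
    simp [Ls, k6, k11]
  have fa : ∀ a, ∀ p ∈ La a, p.1 < 12 ∧ p.2 * ((kk u 1 p.1 : F) - 1) = 0 := fun a => by simp [La, k6]
  have fd : ∀ d, ∀ p ∈ Ld d, p.1 < 12 ∧ p.2 * ((kk u 1 p.1 : F) - 1) = 0 := fun d => by simp [Ld, k10]
  obtain ⟨e, he⟩ : ∃ e, e = S.C.T (hh u 1) (Ls 1 0) := ⟨_, rfl⟩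
  have hes : ∀ {s}, s ≠ 0 → ∀ a, S.C.T (hh u 1) (Ls s a) = e := by
    intro s hs a
    have e1 : S.C.T (hh u 1) (Ls s a) = S.C.T (hh u 1) (Ls s 0) := by
      refine S.line_move hu (gs _ _ _) (ds hs 0) (gs _ _ _) (ds hs a) (fs _ _) (fs _ _) (xr 10 (a / s)) ?_ ?_
      · have := hh_conj u 1 (show 10 < 12 by omega) (a / s)
        rw [k10, Units.val_one, one_mul, mul_inv_eq_iff_eq_mul] at this
        exact this
      · refine fun w hw => S.C.maps _ (fun w hw p hp t => ?_) hw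
        show S.f _ w = _
        simp only [Ls, List.mem_cons, List.not_mem_nil, or_false] at hp hw
        rcases hp with rfl | rfl | rfl <;> dsimp only
        · rw [rel_none (by decide +kernel) (by decide +kernel)]
          exact S.ev hw (by simp) t
        · rw [rel_10_6, S.ev_mul (S.ev hw (r := 6) (s := 0) (by simp) _) (S.ev hw (r := 11) (s := s) (by simp) _)]
          congr 2
          field_simp
          ring
        · rw [rel_none (by decide +kernel) (by decide +kernel)]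
          exact S.ev hw (by simp) t
    rw [e1, he]
    refine S.line_move hu (gs _ _ _) (ds one_ne_zero 0) (gs _ _ _) (ds hs 0) (fs _ _) (fs _ _) (hh 1 (Units.mk0 s hs)⁻¹)
      (hh_comm _ _ _ _) fun w hw => S.maps_scale _ _ _ _ ?_ hw
    simp [Ls, (kk_table 1 (Units.mk0 s hs)⁻¹).2.2.2.2.2.2.2, hs]
  obtain ⟨θ, hθ⟩ : ∃ θ, θ = S.C.T (hh u 1) (La 1) := ⟨_, rfl⟩
  have hθa : ∀ {a}, a ≠ 0 → S.C.T (hh u 1) (La a) = θ := by
    intro a ha
    rw [hθ]
    refine S.line_move hu (g5 _ _ _ _) (S.exists_point h3 hq h1 one_ne_zero).1 (g5 _ _ _ _)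
      (S.exists_point h3 hq h1 ha).1 (fa _) (fa _) (hh (Units.mk0 a ha) (Units.mk0 a ha)) (hh_comm _ _ _ _)
      fun w hw => S.maps_scale _ _ _ _ ?_ hw
    obtain ⟨-, -, t6, -⟩ := kk_table (Units.mk0 a ha) (Units.mk0 a ha)
    simp [La, t6]
    field_simp
  obtain ⟨θ', hθ'⟩ : ∃ θ, θ = S.C.T (hh u 1) (Ld 1) := ⟨_, rfl⟩
  have hθd : ∀ {d}, d ≠ 0 → S.C.T (hh u 1) (Ld d) = θ' := by
    intro d hd
    rw [hθ']
    refine S.line_move hu (g5 _ _ _ _) (S.point_last h3 hq h1 one_ne_zero) (g5 _ _ _ _)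
      (S.point_last h3 hq h1 hd) (fd _) (fd _) (hh (Units.mk0 d hd)⁻¹ ((Units.mk0 d hd) ^ 2)⁻¹) (hh_comm _ _ _ _)
      fun w hw => S.maps_scale _ _ _ _ ?_ hw
    obtain ⟨-, -, -, -, -, -, t10, -⟩ := kk_table (Units.mk0 d hd)⁻¹ ((Units.mk0 d hd) ^ 2)⁻¹
    simp [Ld, t10]
    field_simp
  refine ⟨e, θ, θ', ?_, ?_, ?_, ?_⟩
  · exact he ▸ (S.line hu _ (gs _ _ _) (ds one_ne_zero 0) (fs _ _)).1
  · exact hθ ▸ (S.line hu _ (g5 _ _ _ _) (S.exists_point h3 hq h1 one_ne_zero).1 (fa _)).1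
  · exact hθ' ▸ (S.line hu _ (g5 _ _ _ _) (S.point_last h3 hq h1 one_ne_zero) (fd _)).1
  -- the top eigenspaces
  have htop : ∀ {s}, s ≠ 0 → S.C.T (hh u 1) [(11, s)] = (Fintype.card F : ℂ) * e := by
    intro s hs
    have h6 : ∀ a, S.C.T (hh u 1) [(6, a), (11, s)] = e := fun a => by
      rw [← S.C.sum_T _ 8, Fintype.sum_eq_single 0 fun b hb => ?_]
      · exact hes hs a
      refine S.T_kill (by omega) ?_ (gs _ _ _) (by simp [k6, k11])
      rw [k8]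
      exact mul_ne_zero hb hu'
    rw [← S.C.sum_T _ 6, Finset.sum_congr rfl fun a _ => h6 a]
    simp
  -- the fixed space of the top root group
  have hzero : ∀ {a d : F}, a ≠ 0 → d ≠ 0 → S.C.T (hh u 1) [(10, d), (9, 0), (8, 0), (6, a), (11, 0)] = 0 := by
    intro a d ha hd
    refine S.C.T_of_D_zero _ (g5 _ _ _ _) ?_
    by_contra hne
    exact hd ((S.exists_point h3 hq h1 ha).2 0 d hne).2
  have hbot : S.C.T (hh u 1) [(11, 0)] = ((Fintype.card F - 1 : ℕ) : ℂ) * (θ + θ') := by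
    have h6 : ∀ a, S.C.T (hh u 1) [(6, a), (11, 0)] = ∑ d, S.C.T (hh u 1) [(10, d), (9, 0), (8, 0), (6, a), (11, 0)] := by
      intro a
      rw [← S.C.sum_T _ 8, Fintype.sum_eq_single 0 fun b hb => ?_, ← S.C.sum_T _ 9,
        Fintype.sum_eq_single 0 fun c hc => ?_, ← S.C.sum_T _ 10]
      · refine S.T_kill (by omega) ?_ (S.good_top [(9, c), (8, 0), (6, a)]
          (by simp only [List.map_cons, List.map_nil]; decide +kernel)) (by simp [k6, k11])
        rw [k9]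
        exact mul_ne_zero hc hu''
      · refine S.T_kill (by omega) ?_ (S.good_top [(8, b), (6, a)]
          (by simp only [List.map_cons, List.map_nil]; decide +kernel)) (by simp [k6, k11])
        rw [k8]
        exact mul_ne_zero hb hu'
    rw [← S.C.sum_T _ 6, Finset.sum_congr rfl fun a _ => h6 a, ← Finset.add_sum_erase _ _ (Finset.mem_univ (0 : F)),
      Finset.sum_congr rfl fun a ha => Fintype.sum_eq_single 0 fun d hd => hzero (Finset.ne_of_mem_erase ha) hd,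
      ← Finset.add_sum_erase _ _ (Finset.mem_univ (0 : F)), S.C.T_of_D_zero _ (g5 _ _ _ _) h0,
      Finset.sum_congr rfl fun d hd => hθd (Finset.ne_of_mem_erase hd),
      Finset.sum_congr rfl fun a ha => hθa (Finset.ne_of_mem_erase ha)]
    simp [Finset.card_erase_of_mem]
    ring
  rw [← S.C.T_nil, ← S.C.sum_T _ 11, ← Finset.add_sum_erase _ _ (Finset.mem_univ (0 : F)), hbot,
    Finset.sum_congr rfl fun s hs => htop (Finset.ne_of_mem_erase hs)]
  simp [Finset.card_erase_of_mem]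
  ring

end Rp

theorem no_min_degree {k : ℕ} (ρ : Representation ℂ (Gr F) (Fin k → ℂ)) [ρ.IsIrreducible] (S : Rp F (Fin k → ℂ))
    (hS : S.f = ρ) (h3 : (3 : F) ≠ 0) (hq : 5 ≤ Fintype.card F) (h1 : S.C.D [(8, 0), (6, 0), (11, 1)] = 1)
    (hmod : Fintype.card F % 3 = 1) : S.n 0 0 0 0 ≠ 0 := by
  classical
  intro h0
  obtain ⟨u, hu⟩ := exists_prime_orderOf_dvd_card 3 (G := Fˣ)
    (by rw [Fintype.card_units]; omega)
  have hu3 : u ^ 3 = 1 := hu ▸ pow_orderOf_eq_one u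
  have hu1 : u ≠ 1 := fun e => by rw [e, orderOf_one] at hu; omega
  obtain ⟨e, θ, θ', he, hθ, hθ', htr⟩ := S.trace_omega h3 hq h1 hu3 hu1 h0
  obtain ⟨q, hqe⟩ : ∃ q, q = Fintype.card F := ⟨_, rfl⟩
  rw [← hqe] at hq hmod htr
  have hdim := S.finrank_one h3 (hqe ▸ hq) h1
  rw [h0, Module.finrank_fin_fun, ← hqe, add_zero] at hdim
  obtain ⟨γ, hγ⟩ : ∃ γ, γ = (q : ℂ) * e + θ + θ' := ⟨_, rfl⟩
  rw [← hγ, hS] at htr
  have hint := Char.isIntegral_centralChar ρ (hh u 1)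
  rw [index_omega hu3 hu1 (by omega), ← hqe, Module.finrank_fin_fun,
    show ρ.character (hh u 1) = trace ℂ (Fin k → ℂ) (ρ (hh u 1)) from rfl, htr] at hint
  have hroot : ∀ z : ℂ, z ^ 3 = 1 → IsIntegral ℤ z := fun z hz => Char.isIntegral_of_pow_eq_one (by omega) hz
  have hγint : IsIntegral ℤ γ := by
    rw [hγ]
    exact (((isIntegral_algebraMap (R := ℤ) (x := (q : ℤ))).mul (hroot e he)).add (hroot θ hθ)).add (hroot θ' hθ')
  obtain ⟨R, hR⟩ : ∃ R, R = q ^ 2 + q + 1 := ⟨_, rfl⟩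
  obtain ⟨w, hw⟩ := Nat.even_mul_succ_self q
  have hR2 : R = 2 * w + 1 := by rw [hR, ← two_mul] at *; rw [← hw]; ring
  have hkR : (k : ℤ) = ((q : ℤ) - 1) * R := by
    have e : (k : ℤ) + 1 = (q : ℤ) ^ 3 := by exact_mod_cast hdim
    rw [hR]
    push_cast
    linear_combination e
  have hR0 : (R : ℂ) ≠ 0 := by
    rw [Nat.cast_ne_zero, hR]
    omega
  have hq1 : ((q : ℂ) - 1) ≠ 0 := sub_ne_zero.2 (by exact_mod_cast (show q ≠ 1 by omega))
  have hαint : IsIntegral ℤ (γ / R) := by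
    have e : γ / (R : ℂ) = (((1 : ℤ) + (w : ℤ) * ((q : ℤ) - 1) * ((q : ℤ) ^ 3 + 2) : ℤ) : ℂ) * γ -
        ((w : ℤ) : ℂ) * (((q ^ 3 * (q ^ 3 + 1) : ℕ) : ℂ) * (((q - 1 : ℕ) : ℂ) * γ) / (k : ℂ)) := by
      have hkC : (k : ℂ) = ((q : ℂ) - 1) * R := by exact_mod_cast hkR
      have hRC : (R : ℂ) = 2 * w + 1 := by exact_mod_cast hR2
      have hRC' : (R : ℂ) = (q : ℂ) ^ 2 + q + 1 := by exact_mod_cast hR
      rw [hkC, Nat.cast_sub (by omega : 1 ≤ q)]
      push_cast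
      field_simp
      linear_combination -γ * hRC - γ * w * ((q : ℂ) ^ 3 + 2) * ((q : ℂ) - 1) * hRC'
    rw [e]
    exact ((isIntegral_algebraMap (R := ℤ)).mul hγint).sub ((isIntegral_algebraMap (R := ℤ)).mul hint)
  obtain ⟨ζ, hζ⟩ : ∃ ζ : ℂ, IsPrimitiveRoot ζ 3 := ⟨_, Complex.isPrimitiveRoot_exp 3 (by omega)⟩
  obtain ⟨c, hc⟩ : 3 ∣ q ^ 2 - 1 := by
    have : q ^ 2 % 3 = 1 := by rw [Nat.pow_mod, hmod]
    omega
  obtain ⟨M, hM⟩ : ∃ M, M = Multiset.replicate q e + {θ, θ'} + c • ({1, ζ, ζ ^ 2} : Multiset ℂ) := ⟨_, rfl⟩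
  have hsum : M.sum = γ := by
    have hz := hζ.geom_sum_eq_zero (by omega : 1 < 3)
    simp only [Finset.sum_range_succ, Finset.sum_range_zero, zero_add, pow_zero, pow_one] at hz
    rw [hM, hγ, Multiset.sum_add, Multiset.sum_add, Multiset.sum_nsmul]
    simp [Multiset.insert_eq_cons, ← add_assoc, hz]
  have hcard : Multiset.card M = R := by
    rw [hM, hR]
    simp [Multiset.insert_eq_cons]
    have : 1 ≤ q ^ 2 := Nat.one_le_pow _ _ (by omega)
    omega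
  have hle : ‖γ‖ ≤ (q : ℝ) + 2 := by
    have hn : ∀ z : ℂ, z ^ 3 = 1 → ‖z‖ = 1 := fun z hz => Complex.norm_eq_one_of_pow_eq_one hz (by omega)
    rw [hγ]
    refine (norm_add₃_le).trans ?_
    rw [norm_mul, hn e he, hn θ hθ, hn θ' hθ', Complex.norm_natCast]
    linarith
  have hα0 : γ / (R : ℂ) = 0 := by
    refine Char.eq_zero_of_avg_roots M (fun h => ?_) (fun z hz => ⟨3, by omega, ?_⟩)
      (by rw [hcard, div_mul_cancel₀ _ hR0, hsum]) hαint ?_
    · rw [h, Multiset.card_zero, hR] at hcard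
      omega
    · rw [hM] at hz
      simp only [Multiset.mem_add, Multiset.mem_replicate, Multiset.insert_eq_cons, Multiset.mem_cons,
        Multiset.mem_singleton] at hz
      rcases hz with (⟨-, rfl⟩ | rfl | rfl) | hz
      · exact he
      · exact hθ
      · exact hθ'
      · have hz' := Multiset.mem_of_mem_nsmul hz
        simp only [Multiset.mem_cons, Multiset.mem_singleton] at hz'
        rcases hz' with rfl | rfl | rfl
        · exact one_pow 3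
        · exact hζ.pow_eq_one
        · rw [← pow_mul, mul_comm, pow_mul, hζ.pow_eq_one, one_pow]
    · rw [norm_div, Complex.norm_natCast, div_lt_one (by exact_mod_cast (show 0 < R by omega))]
      refine hle.trans_lt ?_
      have : q + 2 < R := by rw [hR]; nlinarith
      exact_mod_cast this
  have hγ0 : γ = 0 := (div_eq_zero_iff.1 hα0).resolve_right hR0
  have hqe' : (q : ℂ) * e = -(θ + θ') := by linear_combination hγ0 - hγ
  have hn := congrArg norm hqe'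
  rw [norm_neg, norm_mul, Complex.norm_natCast, Complex.norm_eq_one_of_pow_eq_one he (by omega), mul_one] at hn
  have h2 : (q : ℝ) ≤ 2 := by
    rw [hn]
    refine (norm_add_le _ _).trans ?_
    rw [Complex.norm_eq_one_of_pow_eq_one hθ (by omega), Complex.norm_eq_one_of_pow_eq_one hθ' (by omega)]
    norm_num
  have : q ≤ 2 := by exact_mod_cast h2
  omega

end Cfsg.Agent.MinDegreeG2
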