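/-
A line fixed by the unipotent radical determines the degree: it is not `q³`.
-/
import Cfsg.Agent.Lib.MinDegree.G2.Spectrum
import Cfsg.Agent.Lib.MinDegree.G2.Omega
import Cfsg.Agent.Lib.MinDegree.G2.Bruhat

set_option autoImplicit false
set_option maxRecDepth 20000

namespace Cfsg.Agent.MinDegreeG2

open LinearMap Module Cfsg.Lie Cfsg.Agent.Chev Cfsg.Agent.Chev.Tab

/-- the word may be multiplied letter by letter -/
def okR : List ℕ → Bool
  | [] => true
  | i :: R => okR R && Nat.blt i 2 && (i == 0 || Nat.ble 6 (G2Data.tab.rw' R.reverse 6))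

theorem wrd_ok : ∀ j : Fin 12, okR (wrd j) = true ∧ okR (wrd j).reverse = true ∧
    (G2Data.tab.invSet (wrd j)).card = (wrd j).length := by decide +kernel

variable {F : Type*} [Field F]

theorem nn_zero : (nn F 0 : Gr F) = xr 7 1 * xr 4 (-1) * xr 7 1 := by
  obtain ⟨e1, e2⟩ : G2Data.tab.smp 0 = 7 ∧ G2Data.tab.neg 7 = 4 := by decide +kernel
  refine Subtype.ext ?_
  show nG g0 F 0 = xg g0 7 (1 : F) * xg g0 4 (-1 : F) * xg g0 7 (1 : F)
  rw [nG, e1, e2]

theorem hh_zero (u : Fˣ) : (hh u 1 : Gr F) * nn F 0 = xr 7 (u : F) * xr 4 (-(u : F)⁻¹) * xr 7 (u : F) := by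
  obtain ⟨e1, e2⟩ : G2Data.tab.smp 0 = 7 ∧ G2Data.tab.neg 7 = 4 := by decide +kernel
  have h := nE_simple (F := F) g0 (show 0 < G2Data.tab.l by decide +kernel) u
  rw [e1, e2] at h
  refine Subtype.ext ?_
  show tor G2Data.tab F (co u 1) * nG g0 F 0 = _
  rw [show co u 1 = Pi.mulSingle 0 u from funext fun i => by rcases i with _ | _ | i <;> simp [co, Nat.beq]]
  exact h.symm

theorem hS_one_eq (u : Fˣ) : hS G2Data.tab F 1 u = tor G2Data.tab F (co 1 u) := by
  rw [hS, show co 1 u = Pi.mulSingle 1 u from funext fun i => by rcases i with _ | _ | i <;> simp [co, Nat.beq]]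

theorem nn_one_sq : (nn F 1 : Gr F) * nn F 1 = hh 1 (-1) :=
  Subtype.ext ((nG_sq g0 (show 1 < G2Data.tab.l by decide +kernel)).trans (hS_one_eq (-1)))

theorem nn_one_hh (u : Fˣ) : (nn F 1 : Gr F) * hh 1 u = hh 1 u⁻¹ * nn F 1 := by
  refine Subtype.ext ?_
  show nG g0 F 1 * tor G2Data.tab F (co 1 u) = tor G2Data.tab F (co 1 u⁻¹) * nG g0 F 1
  rw [← hS_one_eq, ← hS_one_eq, nG_hS g0 (show 1 < G2Data.tab.l by decide +kernel)]

theorem nn_one_hh_zero (u : Fˣ) : (nn F 1 : Gr F) * hh u 1 = hh u (u ^ 3) * nn F 1 := by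
  refine Subtype.ext ?_
  show nG g0 F 1 * tor G2Data.tab F (co u 1) = tor G2Data.tab F (co u (u ^ 3)) * nG g0 F 1
  rw [← mul_inv_eq_iff_eq_mul, tor_apply, tor_apply, nG_dg g0 (show 1 < G2Data.tab.l by decide +kernel)]
  refine dg_congr g0 fun s hs => ?_
  have e : ∀ s < 12, G2Data.tab.A 0 (G2Data.tab.ref 1 s) = G2Data.tab.A 0 s + 3 * G2Data.tab.A 1 s := by decide +kernel
  rw [wt_co, wt_co, kk, kk, one_zpow, mul_one, e s hs, zpow_add, zpow_mul]
  rfl

/-- `n x(1/t) n = x(-t) h(t) n x(-t) h(-1)` -/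
theorem nn_one_triple (t : Fˣ) : (nn F 1 : Gr F) * xr 6 ((t : F)⁻¹) * nn F 1 =
    xr 6 (-(t : F)) * hh 1 t * nn F 1 * xr 6 (-(t : F)) * hh 1 (-1) := by
  obtain ⟨e1, e2⟩ : G2Data.tab.smp 1 = 6 ∧ G2Data.tab.neg 6 = 5 := by decide +kernel
  have h1 : (xr 6 (t : F) : Gr F) * xr 5 (-(t : F)⁻¹) * xr 6 (t : F) = hh 1 t * nn F 1 := by
    have h := nE_simple (F := F) g0 (show 1 < G2Data.tab.l by decide +kernel) t
    rw [e1, e2, hS_one_eq] at h
    exact Subtype.ext h
  have h2 : (nn F 1 : Gr F) * xr 6 ((t : F)⁻¹) * (nn F 1)⁻¹ = xr 5 (-(t : F)⁻¹) := by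
    obtain ⟨r1, r2⟩ : G2Data.tab.ref 1 6 = 5 ∧ G2Data.tab.eta 1 6 = -1 := by decide +kernel
    rw [nn_conj (by omega) (by omega), r1, r2]
    push_cast
    rw [neg_one_mul]
  calc (nn F 1 : Gr F) * xr 6 ((t : F)⁻¹) * nn F 1
      = (nn F 1 * xr 6 ((t : F)⁻¹) * (nn F 1)⁻¹) * (nn F 1 * nn F 1) := by group
    _ = (xr 6 (t : F))⁻¹ * ((xr 6 (t : F) * xr 5 (-(t : F)⁻¹) * xr 6 (t : F))) * (xr 6 (t : F))⁻¹ * hh 1 (-1) := by
      rw [h2, nn_one_sq]; group
    _ = _ := by rw [h1, xr_inv]; group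

theorem tor_eq_hh (c : ℕ → Fˣ) : tor G2Data.tab F c = tor G2Data.tab F (co (c 0) (c 1)) :=
  tor_congr g0 fun j hj => by
    have : j < 2 := hj
    rcases j with _ | _ | j
    · rfl
    · rfl
    · omega

namespace Rp

variable {W : Type*} [AddCommGroup W] [Module ℂ W] (S : Rp F W)

/-- fixed vectors of the Borel subgroup -/
theorem borel_fix {v : W} (hU : ∀ r, 6 ≤ r → r < 12 → ∀ t, S.f (xr r t) v = v)
    (hT : ∀ c0 c1, S.f (hh c0 c1) v = v) {b : Gr F} (hb : (b : GL G2Data.tab.D.Idx F) ∈ G2Data.tab.D.borelSubgroup F) :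
    S.f b v = v := by
  obtain ⟨u, hu, c, hbu⟩ := (mem_borel_iff g0).1 hb
  have key : ∀ z ∈ genS g0 F (Set.Ico G2Data.tab.N G2Data.tab.n), ∃ y : Gr F,
      (y : GL G2Data.tab.D.Idx F) = z ∧ S.f y v = v := by
    intro z hz
    refine genS_induction g0 (p := fun z => ∃ y : Gr F, (y : GL G2Data.tab.D.Idx F) = z ∧ S.f y v = v)
      ⟨1, rfl, by rw [map_one, Module.End.one_apply]⟩ ?_ hz
    rintro r hr t _ ⟨y, rfl, hy⟩
    exact ⟨xr r t * y, rfl, by rw [map_mul, Module.End.mul_apply, hy, hU r hr.1 hr.2]⟩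
  obtain ⟨y, hy, hy'⟩ := key u hu
  obtain rfl : b = y * hh (c 0) (c 1) := Subtype.ext (by
    rw [hbu, Subgroup.coe_mul, hy, tor_eq_hh c]
    rfl)
  rw [map_mul, Module.End.mul_apply, hT, hy']

variable [Fintype F]

/-- the sum over the long simple root group -/
noncomputable def sum6 : Module.End ℂ W := ∑ a : F, S.f (xr 6 a)

theorem sum6_apply (w : W) : S.sum6 w = ∑ a : F, S.f (xr 6 a) w := by rw [sum6, LinearMap.sum_apply]

theorem sum6_x (t : F) (w : W) : S.sum6 (S.f (xr 6 t) w) = S.sum6 w := by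
  rw [S.sum6_apply, S.sum6_apply]
  refine Fintype.sum_equiv (Equiv.addRight t) _ _ fun a => ?_
  rw [Equiv.coe_addRight, AddChar.map_add_eq_mul, map_mul, Module.End.mul_apply]

theorem x_sum6 (t : F) (w : W) : S.f (xr 6 t) (S.sum6 w) = S.sum6 w := by
  rw [S.sum6_apply, map_sum]
  refine Fintype.sum_equiv (Equiv.addLeft t) _ _ fun a => ?_
  rw [Equiv.coe_addLeft, AddChar.map_add_eq_mul, map_mul, Module.End.mul_apply]

theorem sum6_hh (c0 c1 : Fˣ) (w : W) : S.sum6 (S.f (hh c0 c1) w) = S.f (hh c0 c1) (S.sum6 w) := by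
  rw [S.sum6_apply, S.sum6_apply, map_sum]
  refine (Fintype.sum_equiv (Equiv.mulLeft₀ (kk c0 c1 6 : F) (Units.ne_zero _)) _ _ fun a => ?_).symm
  show S.f (hh c0 c1) (S.f (xr 6 a) w) = S.f (xr 6 ((kk c0 c1 6 : F) * a)) (S.f (hh c0 c1) w)
  rw [← Module.End.mul_apply, ← map_mul, ← Module.End.mul_apply, ← map_mul,
    ← hh_conj c0 c1 (by omega) a, inv_mul_cancel_right]

theorem sum6_fixed {w : W} (h : ∀ t, S.f (xr 6 t) w = w) : S.sum6 w = (Fintype.card F : ℂ) • w := by
  rw [S.sum6_apply, Finset.sum_congr rfl fun a _ => h a, Finset.sum_const, Finset.card_univ,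
    Nat.cast_smul_eq_nsmul ℂ]

variable [FiniteDimensional ℂ W]

/-- the line fixed by the unipotent radical -/
theorem exists_borel_vector (hq : 3 ≤ Fintype.card F) (h0 : S.n 0 0 0 0 = 1) :
    ∃ (v : W) (B : ℂ), v ≠ 0 ∧ (∀ r, 6 ≤ r → r < 12 → ∀ t, S.f (xr r t) v = v) ∧
      (∀ c0 c1, S.f (hh c0 c1) v = v) ∧ S.f (nn F 0) v = v ∧ S.sum6 (S.f (nn F 1) v) = B • v ∧
      (B = Fintype.card F ∨ B = -1) ∧
      ∀ w, (∀ r ∈ ([6, 8, 9, 10, 11] : List ℕ), ∀ t, S.f (xr r t) w = w) → ∃ c : ℂ, w = c • v := by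
  classical
  obtain ⟨q, hqe⟩ : ∃ q, q = Fintype.card F := ⟨_, rfl⟩
  rw [← hqe] at hq ⊢
  obtain ⟨L, hL⟩ : ∃ L : List (ℕ × F), L = [(10, 0), (9, 0), (8, 0), (6, 0), (11, 0)] := ⟨_, rfl⟩
  have hD : S.C.D L = 1 := hL ▸ h0
  obtain ⟨v, hv, hv0⟩ := S.C.exists_ne_zero (L := L) (by rw [hD]; exact one_ne_zero)
  have memL : ∀ {w}, (∀ r ∈ ([6, 8, 9, 10, 11] : List ℕ), ∀ t, S.f (xr r t) w = w) → w ∈ S.C.Eg L := by
    intro w hw p hp t
    rw [hL] at hp
    simp only [List.mem_cons, List.not_mem_nil, or_false] at hp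
    rcases hp with rfl | rfl | rfl | rfl | rfl <;>
    · rw [zero_mul, AddChar.map_zero_eq_one, one_smul]
      exact hw _ (by simp) t
  have fix : ∀ {w}, w ∈ S.C.Eg L → ∀ {r}, r ∈ ([6, 8, 9, 10, 11] : List ℕ) → ∀ t, S.f (xr r t) w = w := by
    intro w hw r hr t
    rw [S.ev hw (r := r) (s := 0) ?_, zero_mul, AddChar.map_zero_eq_one, one_smul]
    rw [hL]
    simp only [List.mem_cons, List.not_mem_nil, or_false] at hr ⊢
    rcases hr with rfl | rfl | rfl | rfl | rfl <;> simp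
  have uniq : ∀ {w}, (∀ r ∈ ([6, 8, 9, 10, 11] : List ℕ), ∀ t, S.f (xr r t) w = w) → ∃ c : ℂ, w = c • v :=
    fun hw => S.C.exists_smul hD hv hv0 (memL hw)
  have hmove : ∀ g : Gr F, (∀ r ∈ ([6, 8, 9, 10, 11] : List ℕ), ∀ t,
      S.f (g⁻¹ * xr r t * g) v = v) → ∃ c : ℂ, S.f g v = c • v := fun g hg => by
    refine uniq fun r hr t => ?_
    rw [← Module.End.mul_apply, ← map_mul, show xr r t * g = g * (g⁻¹ * xr r t * g) by group, map_mul,
      Module.End.mul_apply, hg r hr t]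
  have f2 : ∀ {g g' : Gr F}, S.f g v = v → S.f g' v = v → S.f (g * g') v = v := fun h h' => by
    rw [map_mul, Module.End.mul_apply, h', h]
  have hT : ∀ c0 c1, ∃ c : ℂ, S.f (hh c0 c1) v = c • v := fun c0 c1 => hmove _ fun r hr t => by
    rw [hh_conj_inv c0 c1 (by simp only [List.mem_cons, List.not_mem_nil, or_false] at hr; omega)]
    exact fix hv hr _
  choose al hal using hT
  have inv_smul : ∀ {a b : ℂ}, a • v = b • v → a = b := fun h => smul_left_injective ℂ hv0 h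
  have al_ne : ∀ c0 c1, al c0 c1 ≠ 0 := fun c0 c1 e => hv0 (by
    rw [← S.C.f_inv_mul (hh c0 c1) v, show S.C.f (hh c0 c1) v = 0 from by rw [hal, e, zero_smul], map_zero])
  -- the two short root groups
  have short : ∀ r, (r = 4 ∨ r = 7) → ∀ t, S.f (xr r t) v = v := by
    intro r hr
    have hc : ∀ t, ∃ c : ℂ, S.f (xr r t) v = c • v := fun t => hmove _ fun s hs u => by
      rcases hr with rfl | rfl <;> simp only [List.mem_cons, List.not_mem_nil, or_false] at hs <;>
        rcases hs with rfl | rfl | rfl | rfl | rfl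
      · rw [rel_none (by decide +kernel) (by decide +kernel)]; exact fix hv (by simp) u
      · rw [rel_4_8]; exact f2 (fix hv (by simp) _) (fix hv (by simp) _)
      · rw [rel_4_9]; exact f2 (fix hv (by simp) _) (f2 (fix hv (by simp) _) (f2 (fix hv (by simp) _) (fix hv (by simp) _)))
      · rw [rel_4_10]
        exact f2 (fix hv (by simp) _) (f2 (fix hv (by simp) _) (f2 (fix hv (by simp) _) (f2 (fix hv (by simp) _) (fix hv (by simp) _))))
      · rw [rel_none (by decide +kernel) (by decide +kernel)]; exact fix hv (by simp) u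
      · rw [rel_7_6]
        exact f2 (fix hv (by simp) _) (f2 (fix hv (by simp) _) (f2 (fix hv (by simp) _) (f2 (fix hv (by simp) _) (fix hv (by simp) _))))
      · rw [rel_7_8]; exact f2 (fix hv (by simp) _) (f2 (fix hv (by simp) _) (f2 (fix hv (by simp) _) (fix hv (by simp) _)))
      · rw [rel_7_9]; exact f2 (fix hv (by simp) _) (fix hv (by simp) _)
      · rw [rel_none (by decide +kernel) (by decide +kernel)]; exact fix hv (by simp) u
      · rw [rel_none (by decide +kernel) (by decide +kernel)]; exact fix hv (by simp) u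
    choose χ hχ using hc
    obtain ⟨u, hu⟩ := exists_unit F
    have hk : ∃ k : Fˣ, k ≠ 1 ∧ kk (1 : Fˣ) u r = k := by
      obtain ⟨t4, -, -, t7, -⟩ := kk_table (1 : Fˣ) u
      have hu1 : u ≠ 1 := fun e => hu 1 (by omega) (by omega) (by rw [e, one_pow])
      rcases hr with rfl | rfl
      · exact ⟨u, hu1, by rw [t4]; simp⟩
      · exact ⟨u⁻¹, fun e => hu1 (inv_eq_one.1 e), by rw [t7]; simp⟩
    obtain ⟨k, hk1, hk⟩ := hk
    have hinv : ∀ t, χ ((k : F) * t) = χ t := fun t => inv_smul (by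
      have h := congrArg (fun g => S.f g v) (mul_inv_eq_iff_eq_mul.1
        (hh_conj (1 : Fˣ) u (show r < 12 by omega) t))
      simp only [map_mul, Module.End.mul_apply, hk, hal, hχ, map_smul, smul_smul] at h
      rw [mul_comm (al 1 u)] at h
      exact (congrArg (fun c => c • v) (mul_right_cancel₀ (al_ne 1 u) (inv_smul h).symm)).trans rfl)
    have hadd : ∀ a b, χ (a + b) = χ a * χ b := fun a b => inv_smul (by
      rw [← hχ, AddChar.map_add_eq_mul, map_mul, Module.End.mul_apply, hχ, map_smul, hχ, smul_smul, mul_comm])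
    intro t
    have hk0 : (k : F) - 1 ≠ 0 := sub_ne_zero.2 fun e => hk1 (Units.ext e)
    have h := hadd (((k : F) - 1) * (t / ((k : F) - 1))) (t / ((k : F) - 1))
    rw [show ((k : F) - 1) * (t / ((k : F) - 1)) + t / ((k : F) - 1) = (k : F) * (t / ((k : F) - 1)) by ring,
      hinv, mul_div_cancel₀ _ hk0] at h
    have hne : χ (t / ((k : F) - 1)) ≠ 0 := fun e => hv0 (by
      rw [← S.C.f_inv_mul (xr r (t / ((k : F) - 1))) v, show S.C.f (xr r (t / ((k : F) - 1))) v = 0 from by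
        rw [hχ, e, zero_smul], map_zero])
    rw [hχ, (mul_right_cancel₀ hne ((one_mul _).trans h)).symm, one_smul]
  have hn0 : S.f (nn F 0) v = v := by
    rw [nn_zero]
    exact f2 (f2 (short 7 (Or.inr rfl) _) (short 4 (Or.inl rfl) _)) (short 7 (Or.inr rfl) _)
  have hU : ∀ r, 6 ≤ r → r < 12 → ∀ t, S.f (xr r t) v = v := fun r h1 h2 t => by
    by_cases h7 : r = 7
    · exact short r (Or.inr h7) t
    · exact fix hv (by simp only [List.mem_cons, List.not_mem_nil, or_false]; omega) t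
  have hA : ∀ u, S.f (hh u 1) v = v := fun u => by
    have h : S.f (hh u 1 * nn F 0) v = v := by
      rw [hh_zero]
      exact f2 (f2 (short 7 (Or.inr rfl) _) (short 4 (Or.inl rfl) _)) (short 7 (Or.inr rfl) _)
    rwa [map_mul, Module.End.mul_apply, hn0] at h
  have al_mul : ∀ a0 a1 b0 b1, al (a0 * b0) (a1 * b1) = al a0 a1 * al b0 b1 := fun a0 a1 b0 b1 => inv_smul (by
    rw [← hal, hh_mul, map_mul, Module.End.mul_apply, hal, map_smul, hal, smul_smul, mul_comm])
  have al_zero : ∀ u, al u 1 = 1 := fun u => inv_smul (by rw [← hal, hA, one_smul])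
  have al_split : ∀ c0 c1, al c0 c1 = al 1 c1 := fun c0 c1 => by
    have := al_mul c0 1 1 c1
    rwa [mul_one, one_mul, al_zero, one_mul] at this
  -- the long simple reflection
  obtain ⟨B, hB⟩ : ∃ B : ℂ, S.sum6 (S.f (nn F 1) v) = B • v := by
    have hw : ∀ r ∈ ([8, 9, 10, 11] : List ℕ), ∀ t, S.f (xr r t) (S.f (nn F 1) v) = S.f (nn F 1) v := by
      intro r hr t
      have hr' : r < 12 ∧ 6 ≤ G2Data.tab.ref 1 r ∧ G2Data.tab.ref 1 r < 12 ∧
          G2Data.tab.ref 1 (G2Data.tab.ref 1 r) = r := by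
        revert r
        decide +kernel
      rw [← Module.End.mul_apply, ← map_mul, show xr r t * nn F 1 = nn F 1 * ((nn F 1)⁻¹ * xr r t * nn F 1) by group,
        map_mul, Module.End.mul_apply]
      conv_lhs => rw [← hr'.2.2.2, nn_conj_inv (by omega) hr'.2.2.1]
      rw [hU _ hr'.2.1 hr'.2.2.1]
    refine uniq fun r hr t => ?_
    by_cases h6 : r = 6
    · subst h6
      exact S.x_sum6 t _
    have hr4 : r ∈ ([8, 9, 10, 11] : List ℕ) := by
      simp only [List.mem_cons, List.not_mem_nil, or_false] at hr ⊢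
      omega
    rw [S.sum6_apply, map_sum]
    refine Finset.sum_congr rfl fun a _ => ?_
    rw [← Module.End.mul_apply, ← map_mul, show xr r t * xr 6 a = xr 6 a * ((xr 6 a)⁻¹ * xr r t * xr 6 a) by group,
      map_mul, Module.End.mul_apply]
    congr 1
    have hp : r < 12 ∧ r ≠ 6 ∧ r ≠ G2Data.tab.neg 6 ∧ ∀ c ∈ G2Data.tab.cTerms 6 r, c.1 = 11 := by
      revert r
      decide +kernel
    rw [rel ⟨by omega, hp.1, hp.2.1, hp.2.2.1⟩, map_mul, Module.End.mul_apply]
    refine (congrArg _ ?_).trans (hw r hr4 t)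
    have : ∀ l : List (ℕ × F), (∀ e ∈ l, e.1 = 11) →
        S.f (l.map fun e => (xr e.1 e.2 : Gr F)).prod (S.f (nn F 1) v) = S.f (nn F 1) v := fun l hl => by
      induction l with
      | nil => simp
      | cons e l ih =>
        rw [List.map_cons, List.prod_cons, map_mul, Module.End.mul_apply, ih fun x hx => hl x (List.mem_cons_of_mem _ hx)]
        exact hw _ (by rw [hl e List.mem_cons_self]; simp) _
    exact this _ fun e he => by
      simp only [cVal, List.mem_map] at he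
      obtain ⟨c, hc, rfl⟩ := he
      exact hp.2.2.2 c hc
  have hsum : B * B = al 1 (-1) * ((q : ℂ) + B * ∑ u : Fˣ, al 1 u) := inv_smul (by
    have h : S.sum6 (S.f (nn F 1) (S.sum6 (S.f (nn F 1) v))) = (B * B) • v := by
      rw [hB, map_smul, map_smul, hB, smul_smul]
    rw [← h, S.sum6_apply (S.f (nn F 1) v), map_sum, map_sum]
    simp only [← Module.End.mul_apply (S.f (nn F 1)), ← map_mul]
    rw [← Finset.add_sum_erase _ _ (Finset.mem_univ (0 : F))]
    rw [AddChar.map_zero_eq_one, mul_one, ← Module.End.mul_apply (S.f (nn F 1)), ← map_mul, nn_one_sq, hal, map_smul, S.sum6_fixed (hU 6 le_rfl (by omega)), ← hqe]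
    rw [smul_smul, mul_add, add_smul]
    congr 1
    rw [← mul_assoc, Finset.mul_sum, Finset.sum_smul]
    refine Finset.sum_bij' (fun a ha => (Units.mk0 a (Finset.ne_of_mem_erase ha))⁻¹)
      (fun u _ => (((u⁻¹ : Fˣ)) : F)) (fun a _ => Finset.mem_univ _)
      (fun u _ => Finset.mem_erase.2 ⟨Units.ne_zero _, Finset.mem_univ _⟩) (fun a _ => by simp)
      (fun u _ => inv_injective (Units.ext (by simp))) fun a ha => ?_
    obtain ⟨t, ht⟩ : ∃ t, t = (Units.mk0 a (Finset.ne_of_mem_erase ha))⁻¹ := ⟨_, rfl⟩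
    rw [← ht, show a = (t : F)⁻¹ from by rw [ht]; simp, ← Module.End.mul_apply (S.f (nn F 1 * xr 6 _)), ← map_mul, nn_one_triple]
    simp only [map_mul, Module.End.mul_apply, hal, map_smul, hU 6 le_rfl (by omega)]
    rw [S.sum6_x, S.sum6_hh, hB, map_smul, hal, smul_smul, smul_smul])
  have hflip : ∀ u, B * al 1 u = B * al 1 u⁻¹ := fun u => inv_smul (by
    have h := congrArg (fun g => S.sum6 (S.f g v)) (nn_one_hh u)
    simp only [map_mul, Module.End.mul_apply] at h
    rw [hal, map_smul, map_smul, hB, S.sum6_hh, hB, map_smul, hal, smul_smul, smul_smul] at h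
    rw [mul_comm B, mul_comm B (al 1 u⁻¹)]
    rw [h, mul_comm B])
  have hcube : ∀ u, B = B * al 1 (u ^ 3) := fun u => inv_smul (by
    have h := congrArg (fun g => S.sum6 (S.f g v)) (nn_one_hh_zero u)
    simp only [map_mul, Module.End.mul_apply] at h
    rw [hA, hB, S.sum6_hh, hB, map_smul, hal, al_split, smul_smul] at h
    exact h)
  have hal1 : ∀ u, al 1 u = 1 := by
    by_contra hne
    push Not at hne
    obtain ⟨u0, hu0⟩ := hne
    have hs0 : ∑ u : Fˣ, al 1 u = 0 := by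
      have h : al 1 u0 * ∑ u : Fˣ, al 1 u = ∑ u : Fˣ, al 1 u := by
        rw [Finset.mul_sum]
        refine Fintype.sum_equiv (Equiv.mulLeft u0) _ _ fun u => ?_
        rw [Equiv.coe_mulLeft, ← al_mul, one_mul]
      by_contra hne
      exact hu0 (mul_right_cancel₀ hne (h.trans (one_mul _).symm))
    have hB0 : B ≠ 0 := fun e => by
      rw [e, mul_zero, zero_mul, add_zero, eq_comm, mul_eq_zero] at hsum
      rcases hsum with h | h
      · exact al_ne _ _ h
      · exact absurd (Nat.cast_eq_zero.1 h) (by omega)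
    have h2 : al 1 u0 * al 1 u0 = 1 := by
      rw [congrArg (al 1 u0 * ·) (mul_left_cancel₀ hB0 (hflip u0)), ← al_mul, one_mul, mul_inv_cancel, al_zero]
    have h3 : al 1 u0 * (al 1 u0 * al 1 u0) = 1 := by
      rw [← al_mul, ← al_mul, one_mul, one_mul, ← pow_three]
      exact (mul_left_cancel₀ hB0 ((mul_one B).trans (hcube u0))).symm
    rw [h2, mul_one] at h3
    exact hu0 h3
  refine ⟨v, B, hv0, hU, fun c0 c1 => by rw [hal, al_split, hal1, one_smul], hn0, hB, ?_, fun w hw => uniq hw⟩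
  have hs : ∑ u : Fˣ, al 1 u = (q : ℂ) - 1 := by
    rw [Finset.sum_congr rfl fun u _ => hal1 u, Finset.sum_const, Finset.card_univ, Fintype.card_units, ← hqe]
    simp [Nat.cast_sub (by omega : 1 ≤ q)]
  rw [hal1, hs, one_mul] at hsum
  have : (B - q) * (B + 1) = 0 := by linear_combination hsum
  rcases mul_eq_zero.1 this with h | h
  · exact Or.inl (sub_eq_zero.1 h)
  · exact Or.inr (eq_neg_of_add_eq_zero_left h)

end Rp

theorem no_degree_cube [Fintype F] {k : ℕ} (ρ : Representation ℂ (Gr F) (Fin k → ℂ)) [ρ.IsIrreducible]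
    (S : Rp F (Fin k → ℂ)) (hS : S.f = ρ) (hq : 3 ≤ Fintype.card F) (h0 : S.n 0 0 0 0 = 1) :
    k ≠ Fintype.card F ^ 3 := by
  classical
  intro hk
  obtain ⟨q, hqe⟩ : ∃ q, q = Fintype.card F := ⟨_, rfl⟩
  obtain ⟨v, Bq, hv0, hU, hT, hn0, hB, hBv, uniq⟩ := S.exists_borel_vector hq h0
  rw [← hqe] at hq hBv hk
  have hq0 : (q : ℂ) ≠ 0 := Nat.cast_ne_zero.2 (by omega)
  obtain ⟨β, hβ⟩ : ∃ β : ℂ, β = Bq / q := ⟨_, rfl⟩
  have : Fintype (Gr F) := Fintype.ofFinite _
  obtain ⟨H, hH⟩ : ∃ H : Subgroup (Gr F), H = (G2Data.tab.D.borelSubgroup F).subgroupOf (G2Data.tab.D.group F) :=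
    ⟨_, rfl⟩
  have memH : ∀ {b : Gr F}, b ∈ H ↔ (b : GL G2Data.tab.D.Idx F) ∈ G2Data.tab.D.borelSubgroup F := fun {b} => by
    rw [hH, Subgroup.mem_subgroupOf]
  have hUH : ∀ r, 6 ≤ r → r < 12 → ∀ t, (xr r t : Gr F) ∈ H := fun r h1 h2 t =>
    memH.2 (genS_pos_le_borel g0 (fun r hr => hr) (xg_mem_genS g0 (S := Set.Ico G2Data.tab.N G2Data.tab.n) ⟨h1, h2⟩ t))
  obtain ⟨E, hE⟩ : ∃ E : Module.End ℂ (Fin k → ℂ), E = ∑ b : H, S.f b := ⟨_, rfl⟩
  have hEr : ∀ b ∈ H, E * S.f b = E := fun b hb => by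
    rw [hE, Finset.sum_mul]
    refine Fintype.sum_equiv (Equiv.mulRight (⟨b, hb⟩ : H)) _ _ fun x => ?_
    rw [Equiv.coe_mulRight, Subgroup.coe_mul, map_mul]
  have hEl : ∀ b ∈ H, S.f b * E = E := fun b hb => by
    rw [hE, Finset.mul_sum]
    refine Fintype.sum_equiv (Equiv.mulLeft (⟨b, hb⟩ : H)) _ _ fun x => ?_
    rw [Equiv.coe_mulLeft, Subgroup.coe_mul, map_mul]
  have hline : ∀ w, ∃ c : ℂ, E w = c • v := fun w => uniq _ fun r hr t => by
    rw [← Module.End.mul_apply, hEl _ (hUH r (by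
      simp only [List.mem_cons, List.not_mem_nil, or_false] at hr; omega) (by
      simp only [List.mem_cons, List.not_mem_nil, or_false] at hr; omega) t)]
  choose ℓ hℓ using hline
  obtain ⟨N, hN⟩ : ∃ N : ℕ, N = Nat.card H := ⟨_, rfl⟩
  have hN0 : (N : ℂ) ≠ 0 := by rw [hN]; exact Nat.cast_ne_zero.2 Nat.card_pos.ne'
  have hfixH : ∀ b ∈ H, S.f b v = v := fun b hb => S.borel_fix hU hT (memH.1 hb)
  have hEv : E v = (N : ℂ) • v := by
    rw [hE, LinearMap.sum_apply, Finset.sum_congr rfl fun (b : H) _ => hfixH _ b.2, Finset.sum_const, Finset.card_univ,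
      Nat.cast_smul_eq_nsmul ℂ, hN, Nat.card_eq_fintype_card]
  have inv_smul : ∀ {a b : ℂ}, a • v = b • v → a = b := fun h => smul_left_injective ℂ hv0 h
  have htrace : trace ℂ (Fin k → ℂ) E = N := by
    have hP : LinearMap.IsProj (Submodule.span ℂ {v}) ((N : ℂ)⁻¹ • E) := by
      refine ⟨fun w => Submodule.mem_span_singleton.2 ⟨(N : ℂ)⁻¹ * ℓ w, ?_⟩, fun w hw => ?_⟩
      · rw [LinearMap.smul_apply, hℓ, smul_smul]
      · obtain ⟨c, rfl⟩ := Submodule.mem_span_singleton.1 hw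
        rw [LinearMap.smul_apply, map_smul, hEv, smul_smul, smul_smul]
        congr 1
        field_simp
    have h := hP.trace
    rw [map_smul, finrank_span_singleton hv0, Nat.cast_one, smul_eq_mul, inv_mul_eq_iff_eq_mul₀ hN0, mul_one] at h
    exact h
  -- the function on double cosets
  obtain ⟨φ, hφdef⟩ : ∃ φ : Gr F → ℂ, φ = fun g => ℓ (S.f g v) / N := ⟨_, rfl⟩
  have hφ : ∀ g, E (S.f g v) = ((N : ℂ) * φ g) • v := fun g => by
    rw [hℓ, hφdef]
    congr 1
    field_simp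
  have φ_one : φ 1 = 1 := by
    have h := inv_smul ((hφ 1).symm.trans (by rw [map_one, Module.End.one_apply, hEv]))
    exact mul_left_cancel₀ hN0 (h.trans (mul_one _).symm)
  have φ_bi : ∀ b ∈ H, ∀ b' ∈ H, ∀ g, φ (b * g * b') = φ g := fun b hb b' hb' g => by
    refine mul_left_cancel₀ hN0 (inv_smul ?_)
    rw [← hφ, ← hφ, map_mul, map_mul, Module.End.mul_apply, Module.End.mul_apply, hfixH b' hb',
      ← Module.End.mul_apply E, hEr b hb]
  let nW : ∀ L : List ℕ, G2Data.tab.Wd L → Gr F := fun L hL =>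
    ⟨nWd g0 F L, monomial_le_group g0 ((mem_monomial_iff g0).2 ⟨L, hL, 1, by simp⟩)⟩
  have hword : ∀ R, okR R = true → ∀ hR : G2Data.tab.Wd R.reverse, φ (nW R.reverse hR) = β ^ R.count 1 := by
    intro R
    induction R with
    | nil =>
      intro _ hR
      rw [show nW ([] : List ℕ).reverse hR = 1 from Subtype.ext (nWd_nil g0), φ_one]
      simp
    | cons i R ih =>
      intro h hR
      simp only [okR, Bool.and_eq_true, Bool.or_eq_true, beq_iff_eq, Nat.blt_eq, Nat.ble_eq] at h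
      obtain ⟨⟨h1, h2⟩, h3⟩ := h
      have hR' : G2Data.tab.Wd R.reverse := by
        rw [List.reverse_cons] at hR
        exact (Wd.append_iff.1 hR).1
      have e : nW (i :: R).reverse hR = nW R.reverse hR' * nn F i := Subtype.ext (by
        show nWd g0 F (i :: R).reverse = nWd g0 F R.reverse * nG g0 F i
        rw [List.reverse_cons, nWd_snoc])
      refine mul_left_cancel₀ hN0 (inv_smul ?_)
      rw [← hφ, e, map_mul, Module.End.mul_apply]
      rcases (show i = 0 ∨ i = 1 by omega) with rfl | rfl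
      · rw [hn0, hφ, ih h1 hR', List.count_cons_of_ne (by omega)]
      have hpos : 6 ≤ G2Data.tab.rw' R.reverse 6 := h3.resolve_left (by omega)
      obtain ⟨ε, -, hε⟩ := nWd_conj (F := F) g0 hR' (show 6 < G2Data.tab.n by decide +kernel)
      have hpush : ∀ a, E * S.f (nW R.reverse hR') * S.f (xr 6 a) = E * S.f (nW R.reverse hR') := fun a => by
        have e1 : nW R.reverse hR' * xr 6 a =
            xr (G2Data.tab.rw' R.reverse 6) ((ε : F) * a) * nW R.reverse hR' := Subtype.ext (by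
          show nWd g0 F R.reverse * xg g0 6 a = xg g0 _ ((ε : F) * a) * nWd g0 F R.reverse
          rw [← (hε a).1, inv_mul_cancel_right])
        rw [mul_assoc, ← map_mul, e1, map_mul, ← mul_assoc, hEr _ (hUH _ hpos
          (rw'_lt g0 hR' (show 6 < G2Data.tab.n by decide +kernel)) _)]
      have hfull : E (S.f (nW R.reverse hR') (S.sum6 (S.f (nn F 1) v))) =
          (q : ℂ) • E (S.f (nW R.reverse hR') (S.f (nn F 1) v)) := by
        rw [S.sum6_apply, map_sum, map_sum]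
        simp only [← Module.End.mul_apply, ← mul_assoc, hpush]
        rw [Finset.sum_const, Finset.card_univ, ← hqe, Nat.cast_smul_eq_nsmul ℂ]
      rw [hB, map_smul, map_smul, hφ, ih h1 hR', smul_smul] at hfull
      refine smul_right_injective _ hq0 ?_
      show (q : ℂ) • _ = (q : ℂ) • _
      rw [← hfull]
      simp only [smul_smul, List.count_cons_self]
      congr 1
      rw [hβ, pow_succ]
      field_simp
  have hval : ∀ j : Fin 12, ∀ b ∈ G2Data.tab.D.borelSubgroup F, ∀ u ∈ uMinus g0 F (wrd j), ∀ x : Gr F,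
      (x : GL G2Data.tab.D.Idx F) = b * nWd g0 F (wrd j) * u → φ x * φ x⁻¹ = (β ^ (wrd j).count 1) ^ 2 := by
    intro j b hb u hu x hx
    obtain ⟨o1, o2, -⟩ := wrd_ok j
    have huB : u ∈ G2Data.tab.D.borelSubgroup F := genS_pos_le_borel g0 (fun r hr => hr) (uMinus_le_pos g0 _ hu)
    obtain ⟨e, he⟩ : ∃ e, nWd g0 F (wrd j) * nWd g0 F (wrd j).reverse = tor G2Data.tab F e := by
      rw [← nWd_append]
      exact (nWd_torus_of_pos (F := F) g0 _ le_rfl
        (Wd.append_iff.2 ⟨wrd_Wd j, (wrd_Wd j).reverse⟩) fun s h1 h2 => by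
          rw [rw'_append, rw'_rev' g0 (wrd_Wd j) h2]; exact h1).1
    let b' : Gr F := ⟨b, borel_le_group g0 hb⟩
    let u' : Gr F := ⟨u, borel_le_group g0 huB⟩
    let e' : Gr F := ⟨tor G2Data.tab F e, tor_mem_group g0 e⟩
    have x1 : x = b' * nW _ (wrd_Wd j) * u' := Subtype.ext hx
    have x2 : x⁻¹ = u'⁻¹ * nW _ (wrd_Wd j).reverse * (e'⁻¹ * b'⁻¹) := by
      have h : nW _ (wrd_Wd j) * nW _ (wrd_Wd j).reverse = e' := Subtype.ext he
      rw [x1, ← h]
      group
    have hb' : b' ∈ H := memH.2 hb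
    have hu' : u' ∈ H := memH.2 huB
    have he' : e' ∈ H := memH.2 (torus_le_borel g0 e)
    have v1 : φ (nW _ (wrd_Wd j)) = β ^ (wrd j).count 1 := by
      have h := hword (wrd j).reverse o2 (by rw [List.reverse_reverse]; exact wrd_Wd j)
      simpa only [List.reverse_reverse, List.count_reverse] using h
    rw [x2, x1, φ_bi _ hb' _ hu', φ_bi _ (inv_mem hu') _ (mul_mem (inv_mem he') (inv_mem hb')), v1,
      hword (wrd j) o1 (wrd_Wd j).reverse, sq]
  -- the orthogonality relation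
  have hsumφ : ∑ g, φ g * φ g⁻¹ = (Nat.card (Gr F) : ℂ) / k := by
    obtain ⟨c, hc⟩ := Char.schur_scalar ρ (∑ g, S.f g * E * S.f g⁻¹) (fun h w => by
      have : (∑ g, S.f g * E * S.f g⁻¹) * S.f h = S.f h * ∑ g, S.f g * E * S.f g⁻¹ := by
        rw [Finset.sum_mul, Finset.mul_sum]
        refine (Fintype.sum_equiv (Equiv.mulLeft h) _ _ fun g => ?_).symm
        rw [Equiv.coe_mulLeft, mul_inv_rev, map_mul, map_mul]
        simp only [mul_assoc]
        rw [← map_mul S.f h⁻¹, inv_mul_cancel, map_one, mul_one]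
      rw [← hS]
      exact DFunLike.congr_fun this w)
    have hct : (Nat.card (Gr F) : ℂ) * N = c * k := by
      have h := congrArg (trace ℂ (Fin k → ℂ)) hc
      rw [map_sum, map_smul, trace_id, Module.finrank_fin_fun, smul_eq_mul,
        Finset.sum_congr rfl fun g _ => show trace ℂ (Fin k → ℂ) (S.f g * E * S.f g⁻¹) = N by
          rw [trace_mul_cycle, ← map_mul, inv_mul_cancel, map_one, one_mul, htrace],
        Finset.sum_const, Finset.card_univ, nsmul_eq_mul, ← Nat.card_eq_fintype_card] at h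
      exact h
    have h2 : (N : ℂ) * N * ∑ g, φ g * φ g⁻¹ = c * N := inv_smul (by
      have h := congrArg (fun A : Module.End ℂ (Fin k → ℂ) => E (A v)) hc
      simp only [LinearMap.sum_apply, map_sum, Module.End.mul_apply, hφ, map_smul, smul_smul, LinearMap.smul_apply,
        LinearMap.id_apply, hEv] at h
      rw [← h, Finset.mul_sum, Finset.sum_smul]
      refine Finset.sum_congr rfl fun g _ => ?_
      congr 1
      ring)
    have hk0 : (k : ℂ) ≠ 0 := by
      rw [Nat.cast_ne_zero, hk]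
      exact (pow_pos (by omega) 3).ne'
    rw [eq_div_iff hk0]
    refine mul_left_cancel₀ (mul_ne_zero hN0 hN0) ?_
    linear_combination (k : ℂ) * h2 - (N : ℂ) * hct
  rw [sum_bruhat gA wrd wrd_Wd (fun i i' h => wrd_inj i i' h) (fun L hL => exists_wrd hL) (fun g => φ g * φ g⁻¹)
    (fun j => (β ^ (wrd j).count 1) ^ 2) hval] at hsumφ
  have hb : Nat.card (G2Data.tab.D.borelSubgroup F) = q ^ 6 * (q - 1) ^ 2 := by
    rw [card_borel gA, card_diag, show G2Data.tab.N = 6 from rfl, ← hqe]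
  rw [show Nat.card (Gr F) = q ^ 6 * (q ^ 2 - 1) * (q ^ 6 - 1) from S1059.result hqe.symm, hk, hb, ← hqe] at hsumφ
  simp only [fun j => (wrd_ok j).2.2] at hsumφ
  simp only [Fin.sum_univ_succ, Fin.sum_univ_zero, wrd, wds, List.getD] at hsumφ
  simp at hsumφ
  have hqq : 1 ≤ q ^ 2 ∧ 1 ≤ q ^ 6 := ⟨Nat.one_le_pow _ _ (by omega), Nat.one_le_pow _ _ (by omega)⟩
  rw [Nat.cast_sub (by omega : 1 ≤ q), Nat.cast_sub hqq.1, Nat.cast_sub hqq.2, Nat.cast_one, Nat.cast_pow,
    Nat.cast_pow] at hsumφ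
  obtain ⟨A, hA⟩ : ∃ A : ℕ, A = q ^ 6 * (q - 1) ^ 2 := ⟨_, rfl⟩
  rcases hBv with h | h
  · have hb1 : β = 1 := by rw [hβ, h, div_self hq0]
    rw [hb1] at hsumφ
    field_simp at hsumφ
    have : (q : ℂ) ^ 3 = 1 := by
      refine mul_left_cancel₀ (b := (q : ℂ) ^ 3) (a := (q : ℂ) ^ 6 * ((q : ℂ) ^ 2 - 1) * ((q : ℂ) ^ 6 - 1)) ?_ ?_
      · refine mul_ne_zero (mul_ne_zero (pow_ne_zero _ hq0) ?_) ?_ <;> refine sub_ne_zero.2 ?_
        · exact_mod_cast (Nat.one_lt_pow (by omega) (by omega : 1 < q)).ne'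
        · exact_mod_cast (Nat.one_lt_pow (by omega) (by omega : 1 < q)).ne'
      · linear_combination (q : ℂ) ^ 6 * hsumφ
    have h' : q ^ 3 = 1 := by exact_mod_cast this
    have := Nat.one_lt_pow (n := 3) (by omega) (by omega : 1 < q)
    omega
  · have hb1 : β = -1 / q := by rw [hβ, h]
    rw [hb1] at hsumφ
    field_simp at hsumφ
    have hmain : (3 * q ^ 2 * (q + 1) : ℂ) = (q : ℂ) ^ 5 + (q : ℂ) ^ 4 + (q : ℂ) ^ 3 + (q : ℂ) ^ 2 + q + 1 := by
      refine mul_left_cancel₀ (a := (q : ℂ) ^ 6 * ((q : ℂ) - 1) ^ 2 * ((q : ℂ) + 1)) ?_ ?_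
      · refine mul_ne_zero (mul_ne_zero (pow_ne_zero _ hq0) (pow_ne_zero _ (sub_ne_zero.2 ?_))) ?_
        · exact_mod_cast (show q ≠ 1 by omega)
        · exact_mod_cast (show q + 1 ≠ 0 by omega)
      · linear_combination (q : ℂ) ^ 6 * hsumφ
    have h' : 3 * q ^ 2 * (q + 1) = q ^ 5 + q ^ 4 + q ^ 3 + q ^ 2 + q + 1 := by exact_mod_cast hmain
    nlinarith [Nat.mul_le_mul (show 9 ≤ q ^ 2 by nlinarith) (le_refl (q ^ 3)), Nat.zero_le (q ^ 4)]

end Cfsg.Agent.MinDegreeG2
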