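/-
The shape of a small representation of `G₂(q)` in characteristic three.
-/
import Cfsg.Agent.Lib.MinDegree.G2.NotThree
import Mathlib.Algebra.CharP.Lemmas
import Mathlib.FieldTheory.Perfect

set_option autoImplicit false
set_option maxRecDepth 20000

namespace Cfsg.Agent.MinDegreeG2

open LinearMap Module Cfsg.Lie Cfsg.Agent.Chev Cfsg.Agent.Chev.Tab

namespace Rp

variable {F W : Type*} [Field F] [AddCommGroup W] [Module ℂ W] (S : Rp F W)

/-- the root groups commute in characteristic three -/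
def pairOK3 (r s : ℕ) : Bool :=
  Nat.blt r 12 && Nat.blt s 12 &&
    (r == s || (s != G2Data.tab.neg r && (G2Data.tab.cTerms r s).all fun c => c.2.1 % 3 == 0))

theorem conj3 (h3 : (3 : F) = 0) {r s : ℕ} (hok : pairOK3 r s = true) (t u : F) :
    (xr r t : Gr F)⁻¹ * xr s u * xr r t = xr s u := by
  simp only [pairOK3, Bool.and_eq_true, Nat.blt_eq, Bool.or_eq_true, beq_iff_eq, bne_iff_ne, ne_eq,
    List.all_eq_true] at hok
  obtain ⟨⟨hr, hs⟩, rfl | ⟨h2, h4⟩⟩ := hok
  · rw [xr_inv, ← AddChar.map_add_eq_mul, ← AddChar.map_add_eq_mul, neg_add_cancel_comm]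
  by_cases he : s = r
  · rw [he, xr_inv, ← AddChar.map_add_eq_mul, ← AddChar.map_add_eq_mul, neg_add_cancel_comm]
  rw [rel ⟨hr, hs, he, h2⟩, List.prod_eq_one, mul_one]
  intro x hx
  simp only [cVal, List.map_map, List.mem_map, Function.comp_apply] at hx
  obtain ⟨c, hc, rfl⟩ := hx
  obtain ⟨d, hd⟩ := Int.dvd_of_emod_eq_zero (h4 c hc)
  rw [hd, Int.cast_mul, show ((3 : ℤ) : F) = 0 by exact_mod_cast h3, zero_mul, zero_mul, zero_mul,
    AddChar.map_zero_eq_one]

/-- the pairs to be checked -/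
def chk3 : List ℕ → Bool
  | [] => true
  | r :: l => chk3 l && l.all fun s => pairOK3 r s

theorem good3 (h3 : (3 : F) = 0) (L : List (ℕ × F)) (h : chk3 (L.map Prod.fst) = true) : S.C.Good L := by
  induction L with
  | nil => trivial
  | cons p L ih =>
    obtain ⟨r, s⟩ := p
    simp only [List.map_cons, chk3, Bool.and_eq_true, List.all_eq_true] at h
    refine S.C.good_cons (ih h.1) (fun w hw p hp t u => ?_) s
    show S.f _ w = _
    rw [show S.C.x p.1 = xr p.1 from rfl, show S.C.x r = xr r from rfl,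
      conj3 h3 (h.2 p.1 (List.mem_map_of_mem hp))]
    exact S.ev hw hp u

theorem rel_6_10 (t u : F) : (xr 6 t : Gr F)⁻¹ * xr 10 u * xr 6 t = xr 10 u * xr 11 (-(t * u)) := by
  rw [rel (by decide +kernel), cVal, show G2Data.tab.cTerms 6 10 = [(11, 1, 1, 1)] by decide +kernel]
  simp only [List.map_cons, List.map_nil, List.prod_cons, List.prod_nil, mul_one]
  push_cast
  ring_nf

variable [FiniteDimensional ℂ W] (h3 : (3 : F) = 0)

include h3

theorem trans3 (s b c a t : F) :
    S.C.D [(6, a + t * s), (9, c), (8, b), (11, s)] = S.C.D [(6, a), (9, c), (8, b), (11, s)] := by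
  have key : ∀ a t : F,
      S.C.D [(6, a), (9, c), (8, b), (11, s)] ≤ S.C.D [(6, a + t * s), (9, c), (8, b), (11, s)] := fun a t => by
    refine S.C.D_le_of_maps (xr 10 t) fun w hw => S.C.maps _ (fun w hw p hp u => ?_) hw
    show S.f _ w = _
    simp only [List.mem_cons, List.not_mem_nil, or_false] at hp
    rcases hp with rfl | rfl | rfl | rfl <;> dsimp only
    · rw [rel_10_6, S.ev_mul (S.ev hw (r := 6) (s := a) (by simp) _) (S.ev hw (r := 11) (s := s) (by simp) _)]
      congr 2
      ring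
    all_goals
      rw [conj3 h3 (by decide +kernel)]
      exact S.ev hw (by simp) u
  exact le_antisymm ((key _ (-t)).trans (le_of_eq (by rw [neg_mul, add_neg_cancel_right]))) (key a t)

theorem move4 (s b c t : F) :
    S.C.D [(9, c + 2 * t * b), (8, b), (11, s)] = S.C.D [(9, c), (8, b), (11, s)] := by
  have key : ∀ c t : F, S.C.D [(9, c), (8, b), (11, s)] ≤ S.C.D [(9, c + 2 * t * b), (8, b), (11, s)] := fun c t => by
    refine S.C.D_le_of_maps (xr 4 t) fun w hw => S.C.maps _ (fun w hw p hp u => ?_) hw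
    show S.f _ w = _
    simp only [List.mem_cons, List.not_mem_nil, or_false] at hp
    rcases hp with rfl | rfl | rfl <;> dsimp only
    · rw [rel_4_9, h3, zero_mul, zero_mul, zero_mul, zero_mul, AddChar.map_zero_eq_one, AddChar.map_zero_eq_one,
        mul_one, mul_one, S.ev_mul (S.ev hw (r := 9) (s := c) (by simp) _) (S.ev hw (r := 8) (s := b) (by simp) _)]
      congr 2
      ring
    all_goals
      rw [conj3 h3 (by decide +kernel)]
      exact S.ev hw (by simp) u
  exact le_antisymm ((key _ (-t)).trans (le_of_eq (by rw [show c + 2 * t * b + 2 * -t * b = c by ring]))) (key c t)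

theorem move7 (s b c t : F) :
    S.C.D [(9, c), (8, b + 2 * t * c), (11, s)] = S.C.D [(9, c), (8, b), (11, s)] := by
  have key : ∀ b t : F, S.C.D [(9, c), (8, b), (11, s)] ≤ S.C.D [(9, c), (8, b + 2 * t * c), (11, s)] := fun b t => by
    refine S.C.D_le_of_maps (xr 7 t) fun w hw => S.C.maps _ (fun w hw p hp u => ?_) hw
    show S.f _ w = _
    simp only [List.mem_cons, List.not_mem_nil, or_false] at hp
    rcases hp with rfl | rfl | rfl <;> dsimp only
    · rw [conj3 h3 (by decide +kernel)]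
      exact S.ev hw (by simp) u
    · rw [rel_7_8, h3, zero_mul, zero_mul, zero_mul, zero_mul, neg_zero, AddChar.map_zero_eq_one,
        AddChar.map_zero_eq_one, mul_one, mul_one,
        S.ev_mul (S.ev hw (r := 8) (s := b) (by simp) _) (S.ev hw (r := 9) (s := c) (by simp) _)]
      congr 2
      ring
    · rw [conj3 h3 (by decide +kernel)]
      exact S.ev hw (by simp) u
  exact le_antisymm ((key _ (-t)).trans (le_of_eq (by rw [show b + 2 * t * c + 2 * -t * c = b by ring]))) (key b t)

theorem two_ne : (2 : F) ≠ 0 := fun h => one_ne_zero (α := F) (by linear_combination h3 - h)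

omit h3 in
theorem triple_zero {s : F} (hs : s ≠ 0) :
    S.C.D [(9, 0), (8, 0), (11, s)] = S.C.D [(9, 0), (8, 0), (11, 1)] := by
  have e := S.D_scale 1 (Units.mk0 s hs) [(9, 0), (8, 0), (11, 1)] (by simp)
  simp only [List.map_cons, List.map_nil, zero_mul, (kk_table 1 (Units.mk0 s hs)).2.2.2.2.2.2.2, one_mul,
    Units.val_mk0] at e
  exact e

theorem triple_ne {s b c : F} (hs : s ≠ 0) (h : b ≠ 0 ∨ c ≠ 0) :
    S.C.D [(9, c), (8, b), (11, s)] = S.C.D [(9, 0), (8, 1), (11, 1)] := by
  have h2 := two_ne h3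
  have main : ∀ {b : F}, b ≠ 0 → ∀ c, S.C.D [(9, c), (8, b), (11, s)] = S.C.D [(9, 0), (8, 1), (11, 1)] := by
    intro b hb c
    have e := S.move4 h3 s b 0 (c / (2 * b))
    rw [zero_add, show 2 * (c / (2 * b)) * b = c by field_simp] at e
    rw [e]
    obtain ⟨-, -, -, -, t8, -, -, t11⟩ := kk_table (Units.mk0 (s / b) (div_ne_zero hs hb)) (Units.mk0 s hs)
    have e' := S.D_scale (Units.mk0 (s / b) (div_ne_zero hs hb)) (Units.mk0 s hs) [(9, 0), (8, 1), (11, 1)] (by simp)
    simp only [List.map_cons, List.map_nil, zero_mul, one_mul, t8, t11, Units.val_mk0, Units.val_mul,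
      Units.val_inv_eq_inv_val] at e'
    rw [← e', show (s / b)⁻¹ * s = b by field_simp]
  by_cases hb : b = 0
  · have hc : c ≠ 0 := h.resolve_left (not_not.2 hb)
    rw [← S.move7 h3 s b c 1]
    exact main (by rw [hb, zero_add, mul_one]; exact mul_ne_zero h2 hc) c
  · exact main hb c

variable [Fintype F]

theorem quad_eq {s : F} (hs : s ≠ 0) (a b c : F) :
    Fintype.card F * S.C.D [(6, a), (9, c), (8, b), (11, s)] = S.C.D [(9, c), (8, b), (11, s)] := by
  have h : ∀ a', S.C.D [(6, a'), (9, c), (8, b), (11, s)] = S.C.D [(6, a), (9, c), (8, b), (11, s)] := fun a' => by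
    have e := S.trans3 h3 s b c a ((a' - a) / s)
    rwa [div_mul_cancel₀ _ hs, add_sub_cancel] at e
  rw [← S.C.sum_D (r := 6) (L := [(9, c), (8, b), (11, s)])
    (S.good3 h3 [(6, 0), (9, c), (8, b), (11, s)] (by simp only [List.map_cons, List.map_nil]; decide +kernel)),
    Finset.sum_congr rfl fun a' _ => h a', Finset.sum_const, Finset.card_univ, smul_eq_mul]

/-- the multiplicity at a nonzero form -/
noncomputable def mOne : ℕ := S.C.D [(6, 0), (9, 0), (8, 1), (11, 1)]

/-- the multiplicity at zero -/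
noncomputable def mZero : ℕ := S.C.D [(6, 0), (9, 0), (8, 0), (11, 1)]

theorem quad_val [DecidableEq F] {s : F} (hs : s ≠ 0) (a b c : F) :
    S.C.D [(6, a), (9, c), (8, b), (11, s)] = if b = 0 ∧ c = 0 then S.mZero else S.mOne := by
  refine Nat.eq_of_mul_eq_mul_left (Fintype.card_pos (α := F)) ((S.quad_eq h3 hs a b c).trans ?_)
  split_ifs with h
  · rw [h.1, h.2, S.triple_zero hs, mZero, S.quad_eq h3 one_ne_zero]
  · rw [S.triple_ne h3 hs (by tauto), mOne, S.quad_eq h3 one_ne_zero]

omit h3 in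
theorem sum_pairs [DecidableEq F] (x y : ℕ) :
    ∑ b : F, ∑ c : F, (if b = 0 ∧ c = 0 then x else y) = x + (Fintype.card F ^ 2 - 1) * y := by
  rw [← Fintype.sum_prod_type', ← Finset.add_sum_erase _ _ (Finset.mem_univ ((0 : F), (0 : F))),
    if_pos ⟨rfl, rfl⟩, Finset.sum_congr rfl fun p hp => if_neg ?_, Finset.sum_const,
    Finset.card_erase_of_mem (Finset.mem_univ _), Finset.card_univ, Fintype.card_prod, smul_eq_mul, sq]
  exact fun h => Finset.ne_of_mem_erase hp (Prod.ext h.1 h.2)

theorem top3 [DecidableEq F] {s : F} (hs : s ≠ 0) :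
    S.C.D [(11, s)] = Fintype.card F * (S.mZero + (Fintype.card F ^ 2 - 1) * S.mOne) := by
  rw [← sum_pairs, Finset.mul_sum, ← S.C.sum_D (r := 8) (L := [(11, s)])
    (S.good3 h3 [(8, 0), (11, s)] (by simp only [List.map_cons, List.map_nil]; decide +kernel))]
  refine Finset.sum_congr rfl fun b _ => ?_
  rw [Finset.mul_sum, ← S.C.sum_D (r := 9) (L := [(8, b), (11, s)])
    (S.good3 h3 [(9, 0), (8, b), (11, s)] (by simp only [List.map_cons, List.map_nil]; decide +kernel))]
  refine Finset.sum_congr rfl fun c _ => ?_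
  rw [← S.quad_val h3 hs 0 b c, S.quad_eq h3 hs]

theorem sixTop [DecidableEq F] {s : F} (hs : s ≠ 0) :
    S.C.D [(6, 0), (11, s)] = S.mZero + (Fintype.card F ^ 2 - 1) * S.mOne := by
  rw [← sum_pairs, ← S.C.sum_D (r := 8) (L := [(6, 0), (11, s)])
    (S.good3 h3 [(8, 0), (6, 0), (11, s)] (by simp only [List.map_cons, List.map_nil]; decide +kernel))]
  refine Finset.sum_congr rfl fun b _ => ?_
  rw [← S.C.sum_D (r := 9) (L := [(8, b), (6, 0), (11, s)])
    (S.good3 h3 [(9, 0), (8, b), (6, 0), (11, s)] (by simp only [List.map_cons, List.map_nil]; decide +kernel))]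
  refine Finset.sum_congr rfl fun c _ => ?_
  rw [← S.quad_val h3 hs 0 b c]
  exact S.C.D_congr (by simp) (by simp)

theorem six_ne3 [DecidableEq F] {a : F} (ha : a ≠ 0) :
    S.C.D [(6, a), (11, 0)] = S.mZero + (Fintype.card F ^ 2 - 1) * S.mOne := by
  have h := S.six_fixed
  rw [Finset.sum_congr rfl fun s hs => S.sixTop h3 (Finset.ne_of_mem_erase hs),
    ← S.C.sum_D (r := 6) (L := [(11, 0)])
      (S.good_top [(6, 0)] (by simp only [List.map_cons, List.map_nil]; decide +kernel)),
    ← Finset.add_sum_erase _ _ (Finset.mem_univ (0 : F)),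
    Finset.sum_congr rfl fun a ha => S.scale6 (Finset.ne_of_mem_erase ha), Nat.add_left_cancel_iff,
    Finset.sum_const, Finset.sum_const, smul_eq_mul, smul_eq_mul] at h
  rw [S.scale6 ha]
  exact (Nat.eq_of_mul_eq_mul_left (Finset.card_pos.2 ⟨1, by simp⟩) h).symm

theorem finrank_three [DecidableEq F] : finrank ℂ W =
    (Fintype.card F - 1) * (Fintype.card F + 1) * (S.mZero + (Fintype.card F ^ 2 - 1) * S.mOne) +
      S.C.D [(6, 0), (11, 0)] := by
  have h := S.six_fixed
  rw [Finset.sum_congr rfl fun s hs => S.sixTop h3 (Finset.ne_of_mem_erase hs), Finset.sum_const,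
    Finset.card_erase_of_mem (Finset.mem_univ _), Finset.card_univ, smul_eq_mul] at h
  rw [S.finrank_eq, ← h, Finset.sum_congr rfl fun s hs => S.top3 h3 (Finset.ne_of_mem_erase hs), Finset.sum_const,
    Finset.card_erase_of_mem (Finset.mem_univ _), Finset.card_univ, smul_eq_mul]
  ring

theorem long_short [DecidableEq F] {t u : F} (ht : t ≠ 0) (hu : u ≠ 0) :
    S.C.D [(8, u), (6, t), (11, 0)] = Fintype.card F * S.mOne := by
  have pair : ∀ {s v : F}, s ≠ 0 → v ≠ 0 →
      S.C.D [(9, v), (11, s)] = Fintype.card F * (Fintype.card F * S.mOne) := by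
    intro s v hs hv
    rw [← S.C.sum_D (r := 8) (L := [(9, v), (11, s)])
      (S.good3 h3 [(8, 0), (9, v), (11, s)] (by simp only [List.map_cons, List.map_nil]; decide +kernel)),
      Finset.sum_congr rfl fun b _ => show S.C.D [(8, b), (9, v), (11, s)] = Fintype.card F * S.mOne by
        rw [S.C.D_congr (L' := [(9, v), (8, b), (11, s)]) (by simp) (by simp), ← S.quad_eq h3 hs 0 b v,
          S.quad_val h3 hs, if_neg fun h => hv h.2],
      Finset.sum_const, Finset.card_univ, smul_eq_mul]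
  have six : ∀ {s v : F}, s ≠ 0 → v ≠ 0 → ∀ η, S.C.D [(10, η), (9, v), (11, s)] = Fintype.card F * S.mOne := by
    intro s v hs hv η
    have key : ∀ η a : F, S.C.D [(10, η), (9, v), (11, s)] ≤ S.C.D [(10, η - a * s), (9, v), (11, s)] := fun η a => by
      refine S.C.D_le_of_maps (xr 6 a) fun w hw => S.C.maps _ (fun w hw p hp x => ?_) hw
      show S.f _ w = _
      simp only [List.mem_cons, List.not_mem_nil, or_false] at hp
      rcases hp with rfl | rfl | rfl <;> dsimp only
      · rw [rel_6_10, S.ev_mul (S.ev hw (r := 10) (s := η) (by simp) _) (S.ev hw (r := 11) (s := s) (by simp) _)]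
        congr 2
        ring
      all_goals
        rw [conj3 h3 (by decide +kernel)]
        exact S.ev hw (by simp) x
    have e : ∀ η', S.C.D [(10, η'), (9, v), (11, s)] = S.C.D [(10, η), (9, v), (11, s)] := fun η' => by
      refine le_antisymm ((key η' ((η' - η) / s)).trans (le_of_eq ?_)) ((key η ((η - η') / s)).trans (le_of_eq ?_)) <;>
        rw [div_mul_cancel₀ _ hs, sub_sub_cancel]
    have h := pair hs hv
    rw [← S.C.sum_D (r := 10) (L := [(9, v), (11, s)])
      (S.good3 h3 [(10, 0), (9, v), (11, s)] (by simp only [List.map_cons, List.map_nil]; decide +kernel)),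
      Finset.sum_congr rfl fun η' _ => e η', Finset.sum_const, Finset.card_univ, smul_eq_mul] at h
    exact Nat.eq_of_mul_eq_mul_left Fintype.card_pos h
  have shift : ∀ η v s x : F, S.C.D [(10, η), (9, v), (11, s)] ≤ S.C.D [(10, η), (9, v), (11, s - x * η)] := by
    intro η v s x
    refine S.C.D_le_of_maps (xr 5 x) fun w hw => S.C.maps _ (fun w hw p hp y => ?_) hw
    show S.f _ w = _
    simp only [List.mem_cons, List.not_mem_nil, or_false] at hp
    rcases hp with rfl | rfl | rfl <;> dsimp only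
    · rw [conj3 h3 (by decide +kernel)]
      exact S.ev hw (by simp) y
    · rw [conj3 h3 (by decide +kernel)]
      exact S.ev hw (by simp) y
    · rw [rel_5_11, S.ev_mul (S.ev hw (r := 11) (s := s) (by simp) _) (S.ev hw (r := 10) (s := η) (by simp) _)]
      congr 2
      ring
  have zero : ∀ {η v : F}, η ≠ 0 → v ≠ 0 → S.C.D [(10, η), (9, v), (11, 0)] = Fintype.card F * S.mOne := by
    intro η v hη hv
    rw [← six (neg_ne_zero.2 hη) hv η]
    refine le_antisymm ((shift η v 0 1).trans (le_of_eq ?_)) ((shift η v (-η) (-1)).trans (le_of_eq ?_))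
    · rw [one_mul, zero_sub]
    · rw [neg_one_mul, sub_neg_eq_add, neg_add_cancel]
  obtain ⟨r10, r9, r11⟩ : G2Data.tab.ref 0 6 = 10 ∧ G2Data.tab.ref 0 8 = 9 ∧ G2Data.tab.ref 0 11 = 11 := by
    decide +kernel
  have h := S.D_refl (i := 0) (by omega) [(8, u), (6, t), (11, 0)] (by simp)
  simp only [List.map_cons, List.map_nil, zero_mul, r10, r9, r11] at h
  rw [← h, S.C.D_congr (L' := [(10, t * (G2Data.tab.eta 0 6 : F)), (9, u * (G2Data.tab.eta 0 8 : F)), (11, 0)])
    (by simp) (by simp)]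
  have hne : ∀ r, (G2Data.tab.eta 0 r : F) ≠ 0 := fun r e => by
    have := eta_sq (F := F) G2Data.tab 0 r
    rw [e, zero_mul] at this
    exact zero_ne_one this
  exact zero (mul_ne_zero ht (hne 6)) (mul_ne_zero hu (hne 8))

theorem mOne_ne_zero [DecidableEq F] (hq : 9 ≤ Fintype.card F) : S.mOne ≠ 0 := by
  intro h0
  have hfix : ∀ {s : F}, s ≠ 0 → ∀ w ∈ S.C.Eg [(11, s)], ∀ t,
      S.f (xr 8 t) w = w ∧ S.f (xr 9 t) w = w := by
    intro s hs w hw t
    have hz : ∀ b c : F, ¬(b = 0 ∧ c = 0) → S.C.D [(9, c), (8, b), (11, s)] = 0 := fun b c h => by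
      rw [← S.quad_eq h3 hs 0 b c, S.quad_val h3 hs, if_neg h, h0, mul_zero]
    constructor
    · have h8 := S.C.mem_of_others_zero (r := 8) (s := 0)
        (S.good3 h3 [(8, 0), (11, s)] (by simp only [List.map_cons, List.map_nil]; decide +kernel)) (fun b hb => by
          rw [← S.C.sum_D (r := 9) (L := [(8, b), (11, s)])
            (S.good3 h3 [(9, 0), (8, b), (11, s)] (by simp only [List.map_cons, List.map_nil]; decide +kernel))]
          exact Finset.sum_eq_zero fun c _ => hz b c fun h => hb h.1) hw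
      rw [S.ev h8 List.mem_cons_self, zero_mul, AddChar.map_zero_eq_one, one_smul]
    · have h9 := S.C.mem_of_others_zero (r := 9) (s := 0)
        (S.good3 h3 [(9, 0), (11, s)] (by simp only [List.map_cons, List.map_nil]; decide +kernel)) (fun c hc => by
          rw [← S.C.sum_D (r := 8) (L := [(9, c), (11, s)])
            (S.good3 h3 [(8, 0), (9, c), (11, s)] (by simp only [List.map_cons, List.map_nil]; decide +kernel))]
          refine Finset.sum_eq_zero fun b _ => ?_
          rw [S.C.D_congr (L' := [(9, c), (8, b), (11, s)]) (by simp) (by simp)]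
          exact hz b c fun h => hc h.2) hw
      rw [S.ev h9 List.mem_cons_self, zero_mul, AddChar.map_zero_eq_one, one_smul]
  have hg11 : S.C.Good [(11, (0 : F))] := S.good_top [] rfl
  have h118 : ∀ (w : W) (t r : F),
      S.f (xr 11 t) (S.f (xr 8 r) w) + w = S.f (xr 11 t) w + S.f (xr 8 r) w := by
    intro w t r
    have e : ∑ s : F, S.C.Q [(11, s)] w = w := by
      rw [← LinearMap.sum_apply, S.C.sum_Q]
      rfl
    rw [← e]
    simp only [map_sum, ← Finset.sum_add_distrib]
    refine Finset.sum_congr rfl fun s _ => ?_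
    have hm : S.C.Q [(11, s)] w ∈ S.C.Eg [(11, s)] := (S.C.isProj (S.C.good_head (s' := s) hg11)).map_mem w
    by_cases hs : s = 0
    · subst hs
      have h11 : ∀ t, S.f (xr 11 t) (S.C.Q [(11, (0 : F))] w) = S.C.Q [(11, (0 : F))] w := fun t => by
        rw [S.ev hm List.mem_cons_self, zero_mul, AddChar.map_zero_eq_one, one_smul]
      rw [← Module.End.mul_apply, ← map_mul,
        show (xr 11 t : Gr F) * xr 8 r = xr 8 r * xr 11 t by
          have e := conj3 h3 (r := 8) (s := 11) (by decide +kernel) r t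
          rw [mul_assoc, inv_mul_eq_iff_eq_mul] at e
          exact e,
        map_mul, Module.End.mul_apply, h11, add_comm]
    · rw [(hfix hs _ hm r).1]
  have h107 : ∀ (w : W) (t r : F),
      S.f (xr 10 t) (S.f (xr 7 r) w) + w = S.f (xr 10 t) w + S.f (xr 7 r) w := by
    intro w t r
    obtain ⟨e10, e7⟩ : G2Data.tab.ref 1 11 = 10 ∧ G2Data.tab.ref 1 8 = 7 := by decide +kernel
    have k10 : (xr 10 t : Gr F) = nn F 1 * xr 11 ((G2Data.tab.eta 1 11 : F) * t) * (nn F 1)⁻¹ := by
      rw [← nn_conj_inv (F := F) (i := 1) (s := 11) (by omega) (by omega) t, e10]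
      group
    have k7 : (xr 7 r : Gr F) = nn F 1 * xr 8 ((G2Data.tab.eta 1 8 : F) * r) * (nn F 1)⁻¹ := by
      rw [← nn_conj_inv (F := F) (i := 1) (s := 8) (by omega) (by omega) r, e7]
      group
    have h := congrArg (S.f (nn F 1))
      (h118 (S.f (nn F 1)⁻¹ w) ((G2Data.tab.eta 1 11 : F) * t) ((G2Data.tab.eta 1 8 : F) * r))
    simp only [map_add, ← Module.End.mul_apply, ← map_mul, mul_inv_cancel, map_one, Module.End.one_apply] at h
    simp only [← Module.End.mul_apply, ← map_mul, k10, k7]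
    simp only [mul_assoc, inv_mul_cancel_left] at h ⊢
    exact h
  obtain ⟨s, hs, hDs⟩ := S.exists_top_ne_zero
  have hline : S.C.D [(10, 1), (11, s)] ≠ 0 := by
    have key : ∀ η a : F, S.C.D [(10, η), (11, s)] ≤ S.C.D [(10, η - a * s), (11, s)] := fun η a => by
      refine S.C.D_le_of_maps (xr 6 a) fun w hw => S.C.maps _ (fun w hw p hp x => ?_) hw
      show S.f _ w = _
      simp only [List.mem_cons, List.not_mem_nil, or_false] at hp
      rcases hp with rfl | rfl <;> dsimp only
      · rw [rel_6_10, S.ev_mul (S.ev hw (r := 10) (s := η) (by simp) _) (S.ev hw (r := 11) (s := s) (by simp) _)]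
        congr 2
        ring
      · rw [conj3 h3 (by decide +kernel)]
        exact S.ev hw (by simp) x
    intro hz
    refine hDs ?_
    rw [← S.C.sum_D (r := 10) (L := [(11, s)])
      (S.good3 h3 [(10, 0), (11, s)] (by simp only [List.map_cons, List.map_nil]; decide +kernel))]
    refine Finset.sum_eq_zero fun η _ => Nat.le_zero.1 ((key η ((η - 1) / s)).trans (le_of_eq ?_))
    rw [div_mul_cancel₀ _ hs, sub_sub_cancel, hz]
  obtain ⟨w, hw, hw0⟩ := S.C.exists_ne_zero hline
  have fix7 : ∀ {η : F}, η ≠ 0 → ∀ z ∈ S.C.Eg [(10, η), (11, s)], ∀ r, S.f (xr 7 r) z = z := by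
    intro η hη z hz r
    obtain ⟨t, ht⟩ := AddChar.ne_one_iff.1 (S.hψ hη)
    rw [AddChar.mulShift_apply] at ht
    have hcomm : S.f (xr 10 t) (S.f (xr 7 r) z) = S.ψ (η * t) • S.f (xr 7 r) z := by
      have e := conj3 (F := F) h3 (r := 7) (s := 10) (by decide +kernel) r t
      rw [mul_assoc, inv_mul_eq_iff_eq_mul] at e
      rw [← Module.End.mul_apply, ← map_mul, e, map_mul, Module.End.mul_apply, S.ev hz List.mem_cons_self, map_smul]
    have h := h107 z t r
    rw [hcomm, S.ev hz List.mem_cons_self] at h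
    have h' : (S.ψ (η * t) - 1) • (S.f (xr 7 r) z - z) = 0 := by
      rw [sub_smul, smul_sub, one_smul]
      linear_combination (norm := module) h
    exact sub_eq_zero.1 ((smul_eq_zero.1 h').resolve_left (sub_ne_zero.2 ht))
  obtain ⟨u, hu⟩ := exists_unit F
  obtain ⟨a, ha⟩ : ∃ a : F, a = (u : F) / s := ⟨_, rfl⟩
  have hu1 : (u : F) ≠ 1 := fun e => hu 1 (by omega) (by omega) (by rw [pow_one]; exact Units.ext e)
  have hu2 : (u : F) ≠ -1 := fun e => hu 2 (by omega) (by omega) (Units.ext (by simp [e]))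
  have hw' : S.f (xr 6 a) w ∈ S.C.Eg [(10, 1 - a * s), (11, s)] := by
    refine S.C.maps _ (fun w hw p hp x => ?_) hw
    show S.f _ w = _
    simp only [List.mem_cons, List.not_mem_nil, or_false] at hp
    rcases hp with rfl | rfl <;> dsimp only
    · rw [rel_6_10, S.ev_mul (S.ev hw (r := 10) (s := 1) (by simp) _) (S.ev hw (r := 11) (s := s) (by simp) _)]
      congr 2
      ring
    · rw [conj3 h3 (by decide +kernel)]
      exact S.ev hw (by simp) x
  have hone : ∀ r : F, S.ψ (-(r ^ 3 * (a * (1 + s * a)))) = 1 := fun r => by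
    have h1 : S.f ((xr 7 r)⁻¹ * xr 6 a * xr 7 r) w = S.f (xr 6 a) w := by
      have hne : 1 - a * s ≠ 0 := by
        rw [ha, div_mul_cancel₀ _ hs]
        exact sub_ne_zero.2 (Ne.symm hu1)
      rw [map_mul, map_mul, Module.End.mul_apply, Module.End.mul_apply, fix7 one_ne_zero w hw r, xr_inv]
      exact fix7 hne _ hw' _
    have hw11 : w ∈ S.C.Eg [(11, s)] := ((S.C.mem_cons).1 hw).2
    rw [rel_7_6] at h1
    simp only [map_mul S.f, Module.End.mul_apply] at h1
    simp only [S.ev hw (r := 11) (s := s) (by simp), S.ev hw (r := 10) (s := 1) (by simp),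
      map_smul, (hfix hs w hw11 _).1, (hfix hs w hw11 _).2, smul_smul] at h1
    have hne : S.f (xr 6 a) w ≠ 0 := fun e => hw0 (by rw [← S.C.f_inv_mul (xr 6 a) w, show S.C.f (xr 6 a) w = 0 from e, map_zero])
    rw [← smul_left_injective ℂ hne (h1.trans (one_smul ℂ _).symm), ← AddChar.map_add_eq_mul]
    congr 1
    ring
  have : CharP F 3 := by
    refine (CharP.charP_iff_prime_eq_zero Nat.prime_three).2 ?_
    exact_mod_cast h3
  have hcube : Function.Surjective fun r : F => r ^ 3 := by
    have : ExpChar F 3 := ExpChar.prime Nat.prime_three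
    exact (bijective_frobenius F 3).2
  have hc : a * (1 + s * a) ≠ 0 := by
    rw [ha]
    refine mul_ne_zero (div_ne_zero (Units.ne_zero u) hs) ?_
    rw [mul_div_cancel₀ _ hs]
    exact fun e => hu2 (eq_neg_of_add_eq_zero_right e)
  refine S.hψ hc ?_
  ext x
  obtain ⟨r, hr⟩ := hcube (-x)
  rw [AddChar.mulShift_apply, AddChar.one_apply, ← hone r]
  congr 1
  rw [show r ^ 3 = -x from hr]
  ring

variable (hq : 9 ≤ Fintype.card F) (h1 : S.mOne = 1) (h0 : S.mZero ≤ 3)

include hq h1 h0

theorem zero_part {t : F} (ht : t ≠ 0) :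
    S.mZero = 1 ∧ (∀ d, S.n t 0 0 d = 1) ∧ ∀ c d, S.n t 0 c d ≠ 0 → c = 0 := by
  classical
  obtain ⟨q, hqe⟩ : ∃ q, q = Fintype.card F := ⟨_, rfl⟩
  have hA : ∑ c, ∑ d, S.n t 0 c d + (q - 1) * q = S.mZero + (q ^ 2 - 1) := by
    have e6 := S.six_ne3 h3 ht
    rw [h1, mul_one] at e6
    rw [S.sum_cd, hqe, ← e6, ← S.C.sum_D (r := 8) (L := [(6, t), (11, 0)])
      (S.good_top [(8, 0), (6, t)] (by simp only [List.map_cons, List.map_nil]; decide +kernel)),
      ← Finset.add_sum_erase _ _ (Finset.mem_univ (0 : F)),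
      Finset.sum_congr rfl fun u hu => S.long_short h3 ht (Finset.ne_of_mem_erase hu), Finset.sum_const,
      Finset.card_erase_of_mem (Finset.mem_univ _), Finset.card_univ, smul_eq_mul, h1, mul_one]
  rw [← hqe] at hq
  obtain ⟨A, hAd⟩ : ∃ A, A = ∑ c, ∑ d, S.n t 0 c d := ⟨_, rfl⟩
  rw [← hAd] at hA
  have hq2 : (q - 1) * q + q = q ^ 2 := by
    rw [sq, ← Nat.succ_mul]
    congr 1
    omega
  have hsh : ∀ c d r, S.n t 0 c (d - r * c - r ^ 3 * t) = S.n t 0 c d := fun c d r => by
    have e := S.n_shift4 t 0 c d r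
    rw [h3, zero_mul, zero_mul, add_zero, mul_zero, add_zero, zero_mul, zero_mul, add_zero, mul_zero, sub_zero] at e
    exact e
  have hv : ∀ c d, S.n t 0 c d ≠ 0 → c = 0 := by
    intro c d hcd
    by_contra hc
    let g : Fˣ × F → F × F := fun p =>
      (c * (p.1 : F) ^ 2, d * (p.1 : F) ^ 3 - p.2 * (c * (p.1 : F) ^ 2) - p.2 ^ 3 * t)
    have hpos : ∀ p, 1 ≤ S.n t 0 (g p).1 (g p).2 := by
      rintro ⟨u, r⟩
      rw [hsh]
      obtain ⟨-, -, t6, -, -, t9, t10, -⟩ := kk_table (u ^ 2) (u ^ 3)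
      have e := S.n_tor (u ^ 2) (u ^ 3) t 0 c d
      have i6 : kk (u ^ 2) (u ^ 3) 6 = 1 := by rw [t6, ← pow_mul, ← pow_mul]; simp
      have i10 : kk (u ^ 2) (u ^ 3) 10 = u ^ 3 := by
        rw [t10, ← pow_mul, show 2 * 3 = 3 + 3 from rfl, pow_add, mul_inv_cancel_right]
      rw [i6, t9, i10, Units.val_one, mul_one, zero_mul, Units.val_pow_eq_pow_val, Units.val_pow_eq_pow_val] at e
      show 1 ≤ S.n t 0 (c * (u : F) ^ 2) (d * (u : F) ^ 3)
      rw [e]
      omega
    have himg : ((Finset.univ : Finset (Fˣ × F)).image g).card ≤ A := by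
      rw [hAd, ← Fintype.sum_prod_type', Finset.card_eq_sum_ones]
      refine le_trans (Finset.sum_le_sum fun x hx => ?_) (Finset.sum_le_sum_of_subset (Finset.subset_univ _))
      obtain ⟨p, -, rfl⟩ := Finset.mem_image.1 hx
      exact hpos p
    have hfib : ∀ x ∈ (Finset.univ : Finset (Fˣ × F)).image g,
        ((Finset.univ : Finset (Fˣ × F)).filter fun p => g p = x).card ≤ 6 := by
      intro x hx
      obtain ⟨⟨u0, r0⟩, -, rfl⟩ := Finset.mem_image.1 hx
      have hu : ∀ p : Fˣ × F, g p = g (u0, r0) → p.1 = u0 ∨ p.1 = -u0 := fun p hp => by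
        have e := mul_left_cancel₀ hc (Prod.ext_iff.1 hp).1
        rcases eq_or_eq_neg_of_sq_eq_sq _ _ e with h | h
        · exact Or.inl (Units.ext h)
        · exact Or.inr (Units.ext (by rw [Units.val_neg]; exact h))
      have hr : ∀ (u : Fˣ) (r r' : F), g (u, r) = g (u, r') → (r - r') * (t * (r - r') ^ 2 + c * (u : F) ^ 2) = 0 :=
        fun u r r' hp => by
          linear_combination -(Prod.ext_iff.1 hp).2 + (-t * r ^ 2 * r' + t * r * r' ^ 2) * h3
      have hrs : ∀ u : Fˣ, ((Finset.univ : Finset F).filter fun r => g (u, r) = g (u0, r0)).card ≤ 3 := by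
        intro u
        rcases Finset.eq_empty_or_nonempty ((Finset.univ : Finset F).filter fun r => g (u, r) = g (u0, r0)) with
          h | ⟨r1, hr1⟩
        · rw [h]; simp
        simp only [Finset.mem_filter, Finset.mem_univ, true_and] at hr1
        by_cases h : ∃ r2, g (u, r2) = g (u0, r0) ∧ r2 ≠ r1
        · obtain ⟨r2, hr2, hne⟩ := h
          refine le_trans (Finset.card_le_card (t := {r1, r2, r1 - (r2 - r1)}) fun r hr' => ?_) Finset.card_le_three
          simp only [Finset.mem_filter, Finset.mem_univ, true_and] at hr'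
          simp only [Finset.mem_insert, Finset.mem_singleton]
          rcases mul_eq_zero.1 (hr u r r1 (hr'.trans hr1.symm)) with h | h
          · exact Or.inl (sub_eq_zero.1 h)
          have h2 := (mul_eq_zero.1 (hr u r2 r1 (hr2.trans hr1.symm))).resolve_left (sub_ne_zero.2 hne)
          have e : (r - r1) ^ 2 = (r2 - r1) ^ 2 := mul_left_cancel₀ ht (by linear_combination h - h2)
          rcases eq_or_eq_neg_of_sq_eq_sq _ _ e with e | e
          · exact Or.inr (Or.inl (by linear_combination e))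
          · exact Or.inr (Or.inr (by linear_combination e))
        · push Not at h
          refine le_trans (Finset.card_le_card (t := {r1}) fun r hr' => ?_) (by simp)
          simp only [Finset.mem_filter, Finset.mem_univ, true_and] at hr'
          exact Finset.mem_singleton.2 (h r hr')
      refine le_trans (Finset.card_le_card (t := ({u0, -u0} : Finset Fˣ).biUnion fun u =>
        ((Finset.univ : Finset F).filter fun r => g (u, r) = g (u0, r0)).image fun r => (u, r)) fun p hp => ?_) ?_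
      · simp only [Finset.mem_filter, Finset.mem_univ, true_and] at hp
        simp only [Finset.mem_biUnion, Finset.mem_image, Finset.mem_filter, Finset.mem_univ, true_and,
          Finset.mem_insert, Finset.mem_singleton]
        exact ⟨p.1, hu p hp, p.2, hp, rfl⟩
      · refine le_trans (Finset.card_biUnion_le_card_mul _ _ 3 fun u _ => Finset.card_image_le.trans (hrs u)) ?_
        exact le_trans (Nat.mul_le_mul_right 3 Finset.card_le_two) le_rfl
    have hcard := Finset.card_le_mul_card_image (Finset.univ : Finset (Fˣ × F)) 6 hfib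
    rw [Finset.card_univ, Fintype.card_prod, Fintype.card_units, ← hqe] at hcard
    have h6 := Nat.mul_le_mul_left 6 himg
    have hk : 8 * q ≤ (q - 1) * q := Nat.mul_le_mul_right q (by omega)
    omega
  have hconst : ∀ d, S.n t 0 0 d = S.n t 0 0 0 := by
    have : CharP F 3 := by
      refine (CharP.charP_iff_prime_eq_zero Nat.prime_three).2 ?_
      exact_mod_cast h3
    have : ExpChar F 3 := ExpChar.prime Nat.prime_three
    intro d
    obtain ⟨r, hr⟩ := (bijective_frobenius F 3).2 (d / t)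
    rw [← hsh 0 d r, mul_zero, sub_zero, show r ^ 3 = d / t from hr, div_mul_cancel₀ _ ht, sub_self]
  have hsum : A = q * S.n t 0 0 0 := by
    rw [hAd, Fintype.sum_eq_single 0 fun c hc => Finset.sum_eq_zero fun d _ => by
      by_contra hne
      exact hc (hv c d hne), Finset.sum_congr rfl fun d _ => hconst d, Finset.sum_const, Finset.card_univ,
      smul_eq_mul, hqe]
  obtain ⟨N, hN⟩ : ∃ N, N = S.n t 0 0 0 := ⟨_, rfl⟩
  rw [← hN] at hsum hconst
  have hN1 : N = 1 := by
    rcases (show N = 0 ∨ N = 1 ∨ 2 ≤ N by omega) with rfl | rfl | h2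
    · rw [mul_zero] at hsum
      omega
    · rfl
    · have := Nat.mul_le_mul_left q h2
      omega
  rw [hN1, mul_one] at hsum
  exact ⟨by omega, fun d => (hconst d).trans hN1, hv⟩

theorem diag_part {t u : F} (ht : t ≠ 0) (hu : u ≠ 0) : S.n t u 0 0 = 1 := by
  classical
  have h2 := two_ne h3
  have hsh : ∀ c, ∑ d, S.n t u c d = ∑ d, S.n t u 0 d := by
    intro c
    obtain ⟨r, hr⟩ : ∃ r, r = c / (2 * u) := ⟨_, rfl⟩
    refine (Fintype.sum_equiv (Equiv.subRight (r ^ 2 * u + r ^ 3 * t)) _ _ fun d => ?_).symm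
    rw [← S.n_shift4 t u 0 d r, Equiv.subRight_apply]
    congr 1
    · rw [h3]; ring
    · rw [h3, hr]; field_simp; ring
    · ring
  have hsum : ∑ c, ∑ d, S.n t u c d = Fintype.card F := by
    rw [S.sum_cd, S.long_short h3 ht hu, h1, mul_one]
  rw [Finset.sum_congr rfl fun c _ => hsh c, Finset.sum_const, Finset.card_univ, smul_eq_mul] at hsum
  rw [← (Nat.mul_eq_left (Fintype.card_ne_zero)).1 hsum, Fintype.sum_eq_single 0 fun d hd => ?_]
  by_contra hne
  obtain ⟨e1, e2, e3, e4, he⟩ := S.exists_flip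
  rw [← he, mul_zero] at hne
  exact mul_ne_zero (Units.ne_zero e3) hu
    ((S.zero_part h3 hq h1 h0 (mul_ne_zero (Units.ne_zero e1) hd)).2.2 _ _ hne)

theorem low_bound : Fintype.card F ^ 4 + Fintype.card F ^ 2 + S.n 0 0 0 0 ≤
    finrank ℂ W + Fintype.card F + 1 := by
  classical
  obtain ⟨q, hqe⟩ : ∃ q, q = Fintype.card F := ⟨_, rfl⟩
  have h2 := two_ne h3
  obtain ⟨e1, e2, e3, e4, he⟩ := S.exists_flip
  have hlast : ∀ {d}, d ≠ 0 → S.n 0 0 0 d = 1 := fun {d} hd => by
    rw [← he 0 0 0 d, mul_zero, mul_zero, mul_zero]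
    exact (S.zero_part h3 hq h1 h0 (mul_ne_zero (Units.ne_zero e1) hd)).2.1 0
  have hb : ∀ {b}, b ≠ 0 → S.n 0 b 0 0 = 1 := fun {b} hb => by
    have e := S.n_shift7 0 b 0 0 1
    simp only [zero_add, one_mul, mul_zero, add_zero, sub_zero] at e
    rw [← e]
    exact S.diag_part h3 hq h1 h0 hb hb
  have hzero : (q ^ 2 - 1) + S.n 0 0 0 0 ≤ ∑ c, ∑ d, S.n 0 0 c d := by
    rw [← Fintype.sum_prod_type', ← Finset.add_sum_erase _ _ (Finset.mem_univ ((0 : F), (0 : F))), add_comm]
    refine Nat.add_le_add_left (le_of_eq ?_) _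
    rw [Finset.sum_congr rfl fun p hp => show S.n 0 0 p.1 p.2 = 1 from ?_]
    · simp [hqe, sq]
    have hne := Finset.ne_of_mem_erase hp
    by_cases hc : p.1 = 0
    · rw [hc]
      exact hlast fun hd => hne (Prod.ext hc hd)
    rw [← he 0 0 p.1 p.2, mul_zero, mul_zero]
    by_cases hd : p.2 = 0
    · rw [hd, mul_zero]
      exact hb (mul_ne_zero (Units.ne_zero e2) hc)
    · exact S.diag_part h3 hq h1 h0 (mul_ne_zero (Units.ne_zero e1) hd) (mul_ne_zero (Units.ne_zero e2) hc)
  have hother : ∀ {b}, b ≠ 0 → q ≤ ∑ c, ∑ d, S.n 0 b c d := by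
    intro b hb0
    have hc : ∀ c, 1 ≤ ∑ d, S.n 0 b c d := by
      intro c
      by_cases hc : c = 0
      · rw [hc]
        exact le_trans (le_of_eq (hb hb0).symm) (Finset.single_le_sum (f := fun d => S.n 0 b 0 d) (fun _ _ => Nat.zero_le _) (Finset.mem_univ 0))
      obtain ⟨U, hU⟩ : ∃ U, U = (e2 : F) * c := ⟨_, rfl⟩
      obtain ⟨T, hT⟩ : ∃ T, T = U ^ 2 / ((e3 : F) * b) := ⟨_, rfl⟩
      have hU0 : U ≠ 0 := hU ▸ mul_ne_zero (Units.ne_zero e2) hc
      have he3 : (e3 : F) * b ≠ 0 := mul_ne_zero (Units.ne_zero e3) hb0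
      have hT0 : T ≠ 0 := hT ▸ div_ne_zero (pow_ne_zero 2 hU0) he3
      refine le_trans ?_ (Finset.single_le_sum (f := fun d => S.n 0 b c d) (fun _ _ => Nat.zero_le _)
        (Finset.mem_univ (T / (e1 : F))))
      show 1 ≤ S.n 0 b c (T / (e1 : F))
      rw [← he 0 b c (T / (e1 : F)), mul_zero, mul_div_cancel₀ _ (Units.ne_zero e1), ← hU,
        ← S.diag_part h3 hq h1 h0 hT0 hU0, ← S.n_shift4 T U 0 0 (-U / T)]
      refine le_of_eq ?_
      congr 1
      · rw [h3]; ring
      · rw [h3, show (e3 : F) * b = U ^ 2 / T by rw [hT]; field_simp]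
        field_simp
        linear_combination -U ^ 2 * h3
      · field_simp
        ring
    rw [hqe, ← Finset.card_univ, Finset.card_eq_sum_ones]
    exact Finset.sum_le_sum fun c _ => hc c
  have hS0 : (q ^ 2 - 1) + S.n 0 0 0 0 + (q - 1) * q ≤ S.C.D [(6, 0), (11, 0)] := by
    rw [← S.sum_bcd, ← Finset.add_sum_erase _ _ (Finset.mem_univ (0 : F))]
    refine Nat.add_le_add hzero (le_trans (le_of_eq ?_) (Finset.sum_le_sum fun b hb =>
      hother (Finset.ne_of_mem_erase hb)))
    simp [hqe, Finset.card_erase_of_mem]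
  rw [S.finrank_three h3, h1, (S.zero_part h3 hq h1 h0 one_ne_zero).1, ← hqe]
  rw [← hqe] at hq
  obtain ⟨p, rfl⟩ : ∃ p, q = p + 1 := ⟨q - 1, by omega⟩
  rw [show (p + 1) ^ 2 - 1 = p * (p + 2) from Nat.sub_eq_of_eq_add (by ring), Nat.add_sub_cancel] at hS0 ⊢
  nlinarith

end Rp

end Cfsg.Agent.MinDegreeG2
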