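/-
Lower bounds for the degrees of the representations of `G₂(q)`.
-/
import Cfsg.Agent.Lib.MinDegree.G2.Hecke
import Cfsg.Agent.Lib.MinDegree.G2.Three
import Cfsg.Agent.Lib.OrthDeg.Unitary
import Cfsg.Agent.S1055

set_option autoImplicit false
set_option maxRecDepth 20000

namespace Cfsg.Agent.MinDegreeG2

open LinearMap Module Cfsg.Lie Cfsg.Agent.Chev Cfsg.Agent.Chev.Tab

variable {F : Type*} [Field F] [Fintype F]

namespace Rp

variable {W : Type*} [AddCommGroup W] [Module ℂ W] [FiniteDimensional ℂ W] (S : Rp F W)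

/-- The trace of an involution on an eigenspace is an integer bounded by the dimension. -/
theorem T_invol {g : Gr F} (hg : g * g = 1) {L : List (ℕ × F)} (hL : S.C.Good L)
    (hm : ∀ w ∈ S.C.Eg L, S.f g w ∈ S.C.Eg L) :
    ∃ z : ℤ, S.C.T g L = z ∧ z.natAbs ≤ S.C.D L := by
  have hP := S.C.isProj hL
  have hQ : S.C.Q L * S.C.Q L = S.C.Q L := LinearMap.ext fun w => hP.map_id _ (hP.map_mem w)
  have hgg : S.f g * S.f g = 1 := by rw [← map_mul, hg, map_one]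
  have hcomm : S.C.Q L * (S.f g * S.C.Q L) = S.f g * S.C.Q L :=
    LinearMap.ext fun w => hP.map_id _ (hm _ (hP.map_mem w))
  have key : ∀ c : ℂ, c * c = 1 → IsIdempotentElem ((2 : ℂ)⁻¹ • (S.C.Q L + c • (S.f g * S.C.Q L))) := by
    intro c hc
    have e : (S.f g * S.C.Q L) * (S.f g * S.C.Q L) = S.C.Q L := by
      rw [mul_assoc, hcomm, ← mul_assoc, hgg, one_mul]
    rw [IsIdempotentElem]
    simp only [smul_mul_assoc, mul_smul_comm, mul_add, add_mul, smul_smul, hQ, hcomm, e,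
      mul_assoc (S.f g) (S.C.Q L) (S.C.Q L)]
    match_scalars <;> first | linear_combination (1 / 4 : ℂ) * hc | linear_combination (0 : ℂ) * hc
  have h1 := (key 1 (by ring)).isProj_range.trace
  have h2 := (key (-1) (by ring)).isProj_range.trace
  simp only [map_smul, map_add, smul_eq_mul, S.C.trace_Q hL] at h1 h2
  generalize finrank ℂ (range ((2 : ℂ)⁻¹ • (S.C.Q L + (1 : ℂ) • (S.f g * S.C.Q L)))) = a at h1
  generalize finrank ℂ (range ((2 : ℂ)⁻¹ • (S.C.Q L + (-1 : ℂ) • (S.f g * S.C.Q L)))) = b at h2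
  have hab : (a : ℂ) + b = (S.C.D L : ℂ) := by linear_combination -h1 - h2
  have hab' : a + b = S.C.D L := by exact_mod_cast hab
  refine ⟨(a : ℤ) - b, ?_, by omega⟩
  show trace ℂ W (S.f g * S.C.Q L) = _
  push_cast
  linear_combination h1 - h2

/-- The trace of the involution of the torus. -/
theorem trace_invol (h3 : (3 : F) = 0) (h0 : S.mZero = 1) :
    ∃ e τ : ℤ, e.natAbs = 1 ∧ τ.natAbs ≤ S.n 0 0 0 0 ∧
      trace ℂ W (S.f (hh (-1) 1)) = ((((Fintype.card F - 1 : ℕ) : ℤ) * e + τ : ℤ) : ℂ) := by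
  classical
  obtain ⟨k6, k8, k9, k10, k11⟩ : kk (-1 : Fˣ) 1 6 = -1 ∧ kk (-1 : Fˣ) 1 8 = -1 ∧ kk (-1 : Fˣ) 1 9 = -1 ∧
      kk (-1 : Fˣ) 1 10 = -1 ∧ kk (-1 : Fˣ) 1 11 = 1 := by
    obtain ⟨-, -, t6, -, t8, t9, t10, t11⟩ := kk_table (-1 : Fˣ) 1
    refine ⟨?_, ?_, t9, ?_, t11⟩
    · rw [t6]; simp [pow_three]
    · rw [t8]; simp
    · rw [t10]; simp [pow_three]
  have h2 : ((-1 : Fˣ) : F) - 1 ≠ 0 := fun e => two_ne h3 (by
    rw [Units.val_neg, Units.val_one] at e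
    linear_combination -e)
  have hkill : ∀ {r : ℕ}, r < 12 → kk (-1 : Fˣ) 1 r = -1 → ∀ {s : F}, s ≠ 0 → ∀ {L : List (ℕ × F)},
      S.C.Good ((r, s) :: L) → (∀ p ∈ L, p.1 < 12 ∧ p.2 * ((kk (-1 : Fˣ) 1 p.1 : F) - 1) = 0) →
      S.C.T (hh (-1) 1) ((r, s) :: L) = 0 := fun hr hk _ hs _ hg hL =>
    S.T_kill hr (by rw [hk]; exact mul_ne_zero hs h2) hg hL
  have hinv : (hh (-1) 1 : Gr F) * hh (-1) 1 = 1 := by
    rw [← hh_mul, show (-1 : Fˣ) * -1 = 1 by simp, one_mul, hh_one]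
  let Ls : F → List (ℕ × F) := fun s => [(6, 0), (9, 0), (8, 0), (11, s)]
  let L0 : List (ℕ × F) := [(10, 0), (9, 0), (8, 0), (6, 0), (11, 0)]
  have gs : ∀ s, S.C.Good (Ls s) := fun s =>
    S.good3 h3 [(6, 0), (9, 0), (8, 0), (11, s)] (by simp only [List.map_cons, List.map_nil]; decide +kernel)
  have fs : ∀ s, ∀ p ∈ Ls s, p.1 < 12 ∧ p.2 * ((kk (-1 : Fˣ) 1 p.1 : F) - 1) = 0 := fun s => by simp [Ls, k11]
  have g0' : S.C.Good L0 :=
    S.good_top [(10, 0), (9, 0), (8, 0), (6, 0)] (by simp only [List.map_cons, List.map_nil]; decide +kernel)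
  obtain ⟨τ, hτ, hτle⟩ := S.T_invol hinv g0' fun w hw => S.maps_hh (-1) 1 L0 (by simp [L0]) hw
  have hd : ∀ {s}, s ≠ 0 → S.C.D (Ls s) = 1 := fun {s} hs => by
    refine (S.quad_val h3 hs 0 0 0).trans ?_
    rw [if_pos ⟨rfl, rfl⟩, h0]
  have hline : ∀ {s}, s ≠ 0 → ∀ w ∈ S.C.Eg (Ls s), S.f (hh (-1) 1) w = S.C.T (hh (-1) 1) (Ls s) • w := by
    intro s hs w hw
    obtain ⟨v, hv, hv0⟩ := S.C.exists_ne_zero (L := Ls s) (by rw [hd hs]; exact one_ne_zero)
    obtain ⟨θ, hθ⟩ := S.C.exists_smul (hd hs) hv hv0 (S.maps_hh (-1) 1 _ (fs s) hv)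
    have hall : ∀ w ∈ S.C.Eg (Ls s), S.f (hh (-1) 1) w = θ • w := fun w hw => by
      obtain ⟨c, rfl⟩ := S.C.exists_smul (hd hs) hv hv0 hw
      rw [map_smul, hθ, smul_comm]
    rw [S.C.T_scalar (gs s) hall, hd hs, Nat.cast_one, mul_one]
    exact hall w hw
  obtain ⟨e, he, hele⟩ := S.T_invol hinv (gs 1) fun w hw => S.maps_hh (-1) 1 _ (fs 1) hw
  rw [hd one_ne_zero] at hele
  have he1 : e.natAbs = 1 := by
    rcases (show e.natAbs = 0 ∨ e.natAbs = 1 by omega) with h | h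
    · exfalso
      obtain ⟨v, hv, hv0⟩ := S.C.exists_ne_zero (L := Ls 1) (by rw [hd one_ne_zero]; exact one_ne_zero)
      have e1 := hline one_ne_zero v hv
      rw [he, Int.natAbs_eq_zero.1 h, Int.cast_zero, zero_smul] at e1
      exact hv0 (by rw [← S.C.f_inv_mul (hh (-1) 1) v, show S.C.f (hh (-1) 1) v = 0 from e1, map_zero])
    · exact h
  have hes : ∀ {s}, s ≠ 0 → S.C.T (hh (-1) 1) (Ls s) = e := by
    intro s hs
    rw [← he]
    obtain ⟨v, hv, hv0⟩ := S.C.exists_ne_zero (L := Ls 1) (by rw [hd one_ne_zero]; exact one_ne_zero)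
    obtain ⟨c, hc⟩ : ∃ c : Fˣ, c = (Units.mk0 s hs)⁻¹ := ⟨_, rfl⟩
    have hm : S.f (hh 1 c) v ∈ S.C.Eg (Ls s) := by
      refine S.maps_scale _ _ (Ls 1) _ ?_ hv
      simp [Ls, (kk_table 1 c).2.2.2.2.2.2.2]
      rw [hc]
      simp [hs]
    have h1 := hline hs _ hm
    rw [← Module.End.mul_apply, ← map_mul, hh_comm, map_mul, Module.End.mul_apply, hline one_ne_zero v hv,
      map_smul] at h1
    refine (smul_left_injective ℂ (fun e => hv0 ?_) h1).symm
    rw [← S.C.f_inv_mul (hh 1 c) v, show S.C.f (hh 1 c) v = 0 from e, map_zero]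
  have htop : ∀ {s}, s ≠ 0 → S.C.T (hh (-1) 1) [(11, s)] = e := by
    intro s hs
    rw [← S.C.sum_T _ 8, Fintype.sum_eq_single 0 fun b hb => hkill (by omega) k8 hb
        (S.good3 h3 [(8, b), (11, s)] (by simp only [List.map_cons, List.map_nil]; decide +kernel)) (by simp [k11]),
      ← S.C.sum_T _ 9, Fintype.sum_eq_single 0 fun c hc => hkill (by omega) k9 hc
        (S.good3 h3 [(9, c), (8, 0), (11, s)] (by simp only [List.map_cons, List.map_nil]; decide +kernel))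
        (by simp [k11]),
      ← S.C.sum_T _ 6, Fintype.sum_eq_single 0 fun a ha => hkill (by omega) k6 ha
        (S.good3 h3 [(6, a), (9, 0), (8, 0), (11, s)] (by simp only [List.map_cons, List.map_nil]; decide +kernel))
        (by simp [k11])]
    exact hes hs
  have hbot : S.C.T (hh (-1) 1) [(11, 0)] = τ := by
    have t1 : ∀ a, S.C.Good [(6, a), (11, 0)] := fun a =>
      S.good_top [(6, a)] (by simp only [List.map_cons, List.map_nil]; decide +kernel)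
    have t2 : ∀ b, S.C.Good [(8, b), (6, 0), (11, 0)] := fun b =>
      S.good_top [(8, b), (6, 0)] (by simp only [List.map_cons, List.map_nil]; decide +kernel)
    have t3 : ∀ c, S.C.Good [(9, c), (8, 0), (6, 0), (11, 0)] := fun c =>
      S.good_top [(9, c), (8, 0), (6, 0)] (by simp only [List.map_cons, List.map_nil]; decide +kernel)
    have t4 : ∀ d, S.C.Good [(10, d), (9, 0), (8, 0), (6, 0), (11, 0)] := fun d =>
      S.good_top [(10, d), (9, 0), (8, 0), (6, 0)] (by simp only [List.map_cons, List.map_nil]; decide +kernel)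
    rw [← S.C.sum_T _ 6, Fintype.sum_eq_single 0 fun a ha => hkill (by omega) k6 ha (t1 a) (by simp),
      ← S.C.sum_T _ 8, Fintype.sum_eq_single 0 fun b hb => hkill (by omega) k8 hb (t2 b) (by simp [k11]),
      ← S.C.sum_T _ 9, Fintype.sum_eq_single 0 fun c hc => hkill (by omega) k9 hc (t3 c) (by simp [k11]),
      ← S.C.sum_T _ 10, Fintype.sum_eq_single 0 fun d hd => hkill (by omega) k10 hd (t4 d) (by simp [k11])]
    exact hτ
  refine ⟨e, τ, he1, hτle, ?_⟩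
  rw [← S.C.T_nil, ← S.C.sum_T _ 11, ← Finset.add_sum_erase _ _ (Finset.mem_univ (0 : F)), hbot,
    Finset.sum_congr rfl fun s hs => htop (Finset.ne_of_mem_erase hs)]
  simp [Finset.card_erase_of_mem]
  ring

end Rp

/-- The arithmetic in characteristic three. -/
theorem three_arith {e q k n0 : ℕ} (he : q = 3 ^ e) (hq : 9 ≤ q) (hk : k < q ^ 4 + q ^ 2 + 1)
    (hlow : q ^ 4 + q ^ 2 + n0 ≤ k + q + 1) {z : ℤ} (hz : ∃ a τ : ℤ, a.natAbs = 1 ∧ τ.natAbs ≤ n0 ∧ z = ((q : ℤ) - 1) * a + τ)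
    (hdvd : k ∣ q ^ 4 * (q ^ 4 + q ^ 2 + 1) * z.natAbs) (hord : k ∣ q ^ 6 * (q ^ 2 - 1) * (q ^ 6 - 1)) : False := by
  obtain ⟨a, τ, ha, hτ, hz⟩ := hz
  obtain ⟨d, hd⟩ : ∃ d, k + d = q ^ 4 + q ^ 2 + 1 := ⟨_, Nat.add_sub_cancel' hk.le⟩
  have hq2 : 9 * q ≤ q ^ 2 := by rw [sq]; exact Nat.mul_le_mul_right q hq
  have hq3 : 9 * q ^ 2 ≤ q ^ 3 := by rw [pow_succ' q 2]; exact Nat.mul_le_mul_right _ hq
  have hq4 : 9 * q ^ 3 ≤ q ^ 4 := by rw [pow_succ' q 3]; exact Nat.mul_le_mul_right _ hq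
  have hzb : z.natAbs ≤ 2 * q + 1 := by
    rcases Int.natAbs_eq a with h | h <;> rw [ha] at h <;> rw [hz, h] <;> omega
  have h1 : k ∣ q ^ 4 * (d * z.natAbs) := by
    have : q ^ 4 * (q ^ 4 + q ^ 2 + 1) * z.natAbs = k * (q ^ 4 * z.natAbs) + q ^ 4 * (d * z.natAbs) := by
      rw [← hd]; ring
    rw [this] at hdvd
    exact (Nat.dvd_add_right (dvd_mul_right _ _)).1 hdvd
  have h3q : 3 ∣ q := by
    rw [he]
    exact dvd_pow_self 3 (by rintro rfl; omega)
  have hz0 : z = 0 := by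
    by_contra hz0
    have hpos : 0 < z.natAbs := Int.natAbs_pos.2 hz0
    by_cases hd1 : d = 1
    · subst hd1
      have hk2 : k = q ^ 2 * (q ^ 2 + 1) := by
        rw [show q ^ 2 * (q ^ 2 + 1) = q ^ 4 + q ^ 2 by ring]; omega
      have hc : Nat.Coprime (q ^ 2 + 1) q := by
        rw [sq, Nat.coprime_mul_left_add_left]
        exact Nat.coprime_one_left q
      have h := (hc.pow_right 4).dvd_of_dvd_mul_left ((hk2 ▸ dvd_mul_left (q ^ 2 + 1) (q ^ 2) : q ^ 2 + 1 ∣ k).trans h1)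
      rw [one_mul] at h
      have := Nat.le_of_dvd hpos h
      omega
    have hg : k.gcd (q ^ 4) ≤ q := by
      obtain ⟨j, -, hj⟩ := (Nat.dvd_prime_pow Nat.prime_three).1
        (show k.gcd (q ^ 4) ∣ 3 ^ (e * 4) by rw [pow_mul, ← he]; exact Nat.gcd_dvd_right _ _)
      rw [hj]
      by_contra hlt
      have hje : e + 1 ≤ j := by
        by_contra h
        exact hlt (he ▸ Nat.pow_le_pow_right (by omega) (by omega))
      have h3k : 3 * q ∣ k := by
        rw [he, ← pow_succ']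
        exact (Nat.pow_dvd_pow 3 hje).trans (hj ▸ Nat.gcd_dvd_left _ _)
      have hqk : q ∣ k := (dvd_mul_left q 3).trans h3k
      have hqd : q ∣ d - 1 := by
        have e' : d - 1 + k = q * (q ^ 3 + q) := by
          rw [show q * (q ^ 3 + q) = q ^ 4 + q ^ 2 by ring]; omega
        exact (Nat.dvd_add_left hqk).1 (e' ▸ dvd_mul_right _ _)
      obtain ⟨c, hc⟩ := hqd
      have hc1 : c = 1 := by
        rcases (show c = 0 ∨ c = 1 ∨ 2 ≤ c by omega) with rfl | rfl | h2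
        · rw [mul_zero] at hc; omega
        · rfl
        · have := Nat.mul_le_mul_left q h2
          omega
      subst hc1
      rw [mul_one] at hc
      obtain ⟨x, hx⟩ := h3k
      have hkk : k + q = q * (q ^ 3 + q) := by
        rw [show q * (q ^ 3 + q) = q ^ 4 + q ^ 2 by ring]; omega
      obtain ⟨y, hy⟩ := h3q
      have : 3 * x + 1 = q ^ 3 + q := Nat.eq_of_mul_eq_mul_left (show 0 < q by omega) (by rw [← hkk, hx]; ring)
      rw [hy, show (3 * y) ^ 3 + 3 * y = 3 * (9 * y ^ 3 + y) by ring] at this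
      omega
    have h2 : k ∣ k.gcd (q ^ 4) * (d * z.natAbs) := (Nat.dvd_gcd_mul_iff_dvd_mul).2 h1
    have hle := Nat.le_of_dvd (Nat.mul_pos (Nat.gcd_pos_of_pos_right _ (by positivity))
      (Nat.mul_pos (by omega) hpos)) h2
    have hb : k.gcd (q ^ 4) * (d * z.natAbs) ≤ q * ((q + 2) * (2 * q + 1)) :=
      Nat.mul_le_mul hg (Nat.mul_le_mul (by omega) hzb)
    have e2 : q * ((q + 2) * (2 * q + 1)) = 2 * q ^ 3 + 5 * q ^ 2 + 2 * q := by ring
    omega
  have hn0 : q - 1 ≤ n0 := by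
    rcases Int.natAbs_eq a with h | h <;> rw [ha] at h <;> rw [hz, h] at hz0 <;> omega
  have hd3 : d ≤ 3 := by omega
  obtain ⟨x, hx⟩ : ∃ x : ℤ, x = (q : ℤ) := ⟨_, rfl⟩
  have hN : (k : ℤ) ∣ x ^ 6 * (x ^ 2 - 1) * (x ^ 6 - 1) := by
    have h := Int.natCast_dvd_natCast.2 hord
    have h1 : ∀ j, 1 ≤ q ^ j := fun j => Nat.one_le_pow _ _ (by omega)
    push_cast [Nat.cast_sub (h1 2), Nat.cast_sub (h1 6)] at h
    rwa [hx]
  have hk' : (k : ℤ) + d = x ^ 4 + x ^ 2 + 1 := by rw [hx]; exact_mod_cast hd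
  have hx9 : (81 : ℤ) ≤ x ^ 2 := by
    rw [hx]; exact_mod_cast le_trans (show 81 ≤ 9 * q by omega) hq2
  interval_cases d
  · omega
  · have hdk : x ^ 2 + 1 ∣ (k : ℤ) := ⟨x ^ 2, by push_cast at hk'; linear_combination hk'⟩
    have h4 : x ^ 2 + 1 ∣ (4 : ℤ) := by
      have hr : x ^ 2 + 1 ∣ x ^ 6 * (x ^ 2 - 1) * (x ^ 6 - 1) + 4 :=
        ⟨x ^ 12 - 2 * x ^ 10 + 2 * x ^ 8 - 3 * x ^ 6 + 4 * x ^ 4 - 4 * x ^ 2 + 4, by ring⟩
      exact (dvd_add_right (hdk.trans hN)).1 hr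
    have := Int.le_of_dvd (by norm_num) h4
    omega
  · have h26 : (k : ℤ) ∣ 26 * x ^ 2 - 16 := by
      have hr : (k : ℤ) ∣ x ^ 6 * (x ^ 2 - 1) * (x ^ 6 - 1) - (26 * x ^ 2 - 16) := by
        refine ⟨x ^ 10 - 2 * x ^ 8 + 3 * x ^ 6 - 6 * x ^ 4 + 10 * x ^ 2 - 16, ?_⟩
        push_cast at hk'
        linear_combination -(x ^ 10 - 2 * x ^ 8 + 3 * x ^ 6 - 6 * x ^ 4 + 10 * x ^ 2 - 16) * hk'
      exact (dvd_sub_right hN).1 hr
    have hle := Int.le_of_dvd (by omega) h26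
    push_cast at hk'
    nlinarith
  · have hdk : x ^ 2 + 2 ∣ (k : ℤ) := ⟨x ^ 2 - 1, by push_cast at hk'; linear_combination hk'⟩
    have hdk3 := hdk.trans hN
    have h216 : x ^ 2 + 2 ∣ (216 : ℤ) := by
      have hr : x ^ 2 + 2 ∣ x ^ 6 * (x ^ 2 - 1) * (x ^ 6 - 1) + 216 :=
        ⟨x ^ 12 - 3 * x ^ 10 + 6 * x ^ 8 - 13 * x ^ 6 + 27 * x ^ 4 - 54 * x ^ 2 + 108, by ring⟩
      exact (dvd_add_right hdk3).1 hr
    rcases (show q = 9 ∨ 15 ≤ q by
      by_contra h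
      push Not at h
      rcases (show e ≤ 2 ∨ 3 ≤ e by omega) with h' | h'
      · interval_cases e <;> omega
      · have := Nat.pow_le_pow_right (show 0 < 3 by omega) h'
        omega) with rfl | h15
    · rw [hx] at h216; norm_num at h216
    · have h225 : (225 : ℤ) ≤ x ^ 2 := by
        rw [hx]; exact_mod_cast Nat.pow_le_pow_left h15 2
      have := Int.le_of_dvd (by norm_num) h216
      omega

theorem no_three {k : ℕ} (ρ : Representation ℂ (Gr F) (Fin k → ℂ)) [ρ.IsIrreducible] (S : Rp F (Fin k → ℂ))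
    (hS : S.f = ρ) (h3 : (3 : F) = 0) (hq : 9 ≤ Fintype.card F) (h1 : S.mOne = 1) (h0 : S.mZero ≤ 3) :
    Fintype.card F ^ 4 + Fintype.card F ^ 2 + 1 ≤ k := by
  classical
  by_contra hlt
  have hlow := S.low_bound h3 hq h1 h0
  rw [Module.finrank_fin_fun] at hlow
  obtain ⟨a, τ, ha, hτ, htr⟩ := S.trace_invol h3 (S.zero_part h3 hq h1 h0 one_ne_zero).1
  obtain ⟨z, hz⟩ : ∃ z : ℤ, z = ((Fintype.card F - 1 : ℕ) : ℤ) * a + τ := ⟨_, rfl⟩
  rw [← hz, hS] at htr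
  have : CharP F 3 := (CharP.charP_iff_prime_eq_zero Nat.prime_three).2 (by exact_mod_cast h3)
  obtain ⟨⟨e, he0⟩, hp3, he⟩ := FiniteField.card F 3
  have hodd : Odd (Fintype.card F) := by rw [he]; exact Odd.pow (by decide)
  have hne : (hh (-1) 1 : Gr F) ≠ 1 := by
    intro e1
    have h := hh_conj (-1 : Fˣ) 1 (show 9 < 12 by omega) (1 : F)
    rw [e1, one_mul, inv_one, mul_one, (kk_table (-1 : Fˣ) 1).2.2.2.2.2.1, mul_one] at h
    have h' := xg_injective g0 (show 9 < G2Data.tab.n by decide +kernel) (congrArg Subtype.val h)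
    exact Rp.two_ne h3 (by rw [Units.val_neg, Units.val_one] at h'; linear_combination h')
  have hord : orderOf (hh (-1) 1 : Gr F) = 2 := by
    have := Fact.mk Nat.prime_two
    refine orderOf_eq_prime ?_ hne
    rw [sq, ← hh_mul, show (-1 : Fˣ) * -1 = 1 by simp, one_mul, hh_one]
  have hcard := (ChevOdd.G2.centralizer_structure hodd _ hord).1
  have hG : Nat.card (Gr F) = Fintype.card F ^ 6 * (Fintype.card F ^ 2 - 1) * (Fintype.card F ^ 6 - 1) :=
    S1059.result rfl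
  obtain ⟨q, hqe⟩ : ∃ q, q = Fintype.card F := ⟨_, rfl⟩
  rw [← hqe] at hq hlow hlt hG hcard hz he
  have hindex : (Subgroup.centralizer ({hh (-1) 1} : Set (Gr F))).index = q ^ 4 * (q ^ 4 + q ^ 2 + 1) := by
    have h := (Subgroup.centralizer ({hh (-1) 1} : Set (Gr F))).card_mul_index
    obtain ⟨r, hr⟩ : ∃ r, q ^ 2 = r + 1 := ⟨q ^ 2 - 1, (Nat.sub_add_cancel (Nat.one_le_pow _ _ (by omega))).symm⟩
    have h6 : q ^ 6 = (r + 1) ^ 3 := by rw [← hr, ← pow_mul]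
    rw [hcard, hG] at h
    refine Nat.eq_of_mul_eq_mul_left ?_ (h.trans ?_)
    · rw [hr, Nat.add_sub_cancel]
      have : 0 < r := by nlinarith
      positivity
    rw [h6, show q ^ 4 = (r + 1) ^ 2 by rw [← hr, ← pow_mul], hr, Nat.add_sub_cancel,
      show (r + 1) ^ 3 - 1 = r * ((r + 1) ^ 2 + (r + 1) + 1) from Nat.sub_eq_of_eq_add (by ring)]
    ring
  have hint := Char.isIntegral_centralChar ρ (hh (-1) 1)
  rw [hindex, Module.finrank_fin_fun,
    show ρ.character (hh (-1) 1) = trace ℂ (Fin k → ℂ) (ρ (hh (-1) 1)) from rfl, htr] at hint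
  have hk0 : k ≠ 0 := by
    have := Nat.one_le_pow 4 q (by omega)
    have : 9 * q ≤ q ^ 2 := by rw [sq]; exact Nat.mul_le_mul_right q hq
    omega
  have hdvd : k ∣ q ^ 4 * (q ^ 4 + q ^ 2 + 1) * z.natAbs := by
    rcases Int.natAbs_eq z with h | h
    · refine Char.dvd_of_isIntegral_div hk0 ?_
      rw [h, Int.cast_natCast] at hint
      push_cast at hint ⊢
      exact hint
    · refine Char.dvd_of_isIntegral_div hk0 ?_
      rw [h, Int.cast_neg, Int.cast_natCast] at hint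
      have := hint.neg
      push_cast at this ⊢
      convert this using 1
      ring
  have hdeg : k ∣ Nat.card (Gr F) :=
    Char.degree_dvd_card (⟨k, ρ, inferInstance, rfl⟩ : Cfsg.IsIrrCharacter (Gr F) ρ.character)
      (by rw [Representation.char_one, Module.finrank_fin_fun])
  rw [hG] at hdeg
  refine three_arith he hq (by omega) hlow ⟨a, τ, ha, hτ, ?_⟩ hdvd hdeg
  rw [hz, Nat.cast_sub (by omega)]
  rfl

theorem min_degree {k : ℕ} (ρ : Representation ℂ (Gr F) (Fin k → ℂ)) (hρ : ρ.IsIrreducible) (hk : 2 ≤ k) :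
    (Fintype.card F % 3 = 1 → 4 < Fintype.card F → Fintype.card F ^ 3 + 1 ≤ k) ∧
    (Fintype.card F % 3 = 2 → 2 < Fintype.card F → Fintype.card F ^ 3 - 1 ≤ k) ∧
    (Fintype.card F % 3 = 0 → 3 < Fintype.card F → Fintype.card F ^ 4 + Fintype.card F ^ 2 + 1 ≤ k) := by
  classical
  rcases (show Fintype.card F ≤ 2 ∨ 3 ≤ Fintype.card F by omega) with h2 | hq3
  · refine ⟨fun _ h => ?_, fun _ h => ?_, fun _ h => ?_⟩ <;> omega
  let f : Gr F →* Module.End ℂ (Fin k → ℂ) := ρ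
  have hinj : ∀ g, f g = 1 → g = 1 := by
    obtain ⟨u, hu⟩ := exists_unit F
    have : IsSimpleGroup (Gr F) :=
      (S1055.result (F := F) ⟨(u : F), Units.ne_zero u, fun e => hu 1 (by omega) (by omega) (by rw [pow_one]; exact Units.ext e)⟩).1
    rcases f.toHomUnits.normal_ker.eq_bot_or_eq_top with h | h
    · intro g hg
      have : g ∈ f.toHomUnits.ker := MonoidHom.mem_ker.2 (Units.ext hg)
      rwa [h, Subgroup.mem_bot] at this
    · exfalso
      obtain ⟨g, x, hgx⟩ := OrthDeg.exists_ne_of_irreducible ρ hρ hk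
      refine hgx ?_
      have : g ∈ f.toHomUnits.ker := h ▸ Subgroup.mem_top g
      have e : f g = 1 := congrArg Units.val (MonoidHom.mem_ker.1 this)
      show f g x = x
      rw [e]; rfl
  obtain ⟨ψ₁, hψn⟩ : ∃ ψ : AddChar F ℂ, ψ ≠ 1 := by
    obtain ⟨ψ, hψ⟩ := AddChar.exists_apply_ne_zero.2 (one_ne_zero (α := F))
    exact ⟨ψ, fun h => hψ (by rw [h, AddChar.one_apply])⟩
  let S : Rp F (Fin k → ℂ) := ⟨f, ψ₁, AddChar.IsPrimitive.of_ne_one hψn, hinj⟩
  obtain ⟨p, hp⟩ := CharP.exists F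
  obtain ⟨⟨e, hepos⟩, hpp, hpe⟩ := FiniteField.card F p
  have h3iff : (3 : F) = 0 ↔ Fintype.card F % 3 = 0 := by
    constructor
    · intro h
      have : Fact p.Prime := ⟨hpp⟩
      have h' : p ∣ 3 := (CharP.cast_eq_zero_iff F p 3).1 (by exact_mod_cast h)
      obtain rfl : p = 3 := (Nat.prime_dvd_prime_iff_eq hpp Nat.prime_three).1 h'
      rw [hpe]
      exact Nat.dvd_iff_mod_eq_zero.1 (dvd_pow_self 3 (by show e ≠ 0; omega))
    · intro h
      rw [hpe] at h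
      obtain rfl : 3 = p := (Nat.prime_dvd_prime_iff_eq Nat.prime_three hpp).1
        (Nat.prime_three.dvd_of_dvd_pow (Nat.dvd_iff_mod_eq_zero.2 h))
      exact_mod_cast CharP.cast_eq_zero F 3
  obtain ⟨q, hqe⟩ : ∃ q, q = Fintype.card F := ⟨_, rfl⟩
  rw [← hqe] at hq3 h3iff hpe ⊢
  have hnot3 : q % 3 ≠ 0 → 5 ≤ q → q ^ 3 - 1 ≤ k ∧ (q % 3 = 1 → q ^ 3 + 1 ≤ k) := by
    intro hmod hq5
    have h3 : (3 : F) ≠ 0 := fun h => hmod (h3iff.1 h)
    obtain ⟨t, ht⟩ : ∃ t, q = t + 1 := ⟨q - 1, by omega⟩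
    rcases (show S.C.D [(8, 0), (6, 0), (11, 1)] = 1 ∨ 2 ≤ S.C.D [(8, 0), (6, 0), (11, 1)] by
      have := S.mult_ne_zero h3; omega) with h1 | h2
    · have hdim := S.finrank_one h3 (hqe ▸ hq5) h1
      rw [Module.finrank_fin_fun, ← hqe] at hdim
      refine ⟨by omega, fun h1m => ?_⟩
      by_contra hlt
      rcases (show S.n 0 0 0 0 = 0 ∨ S.n 0 0 0 0 = 1 by omega) with h0 | h0
      · exact no_min_degree ρ S rfl h3 (hqe ▸ hq5) h1 (hqe ▸ h1m) h0
      · exact no_degree_cube ρ S rfl (hqe ▸ hq3) h0 (by rw [← hqe]; omega)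
    · have hdim := S.finrank_notThree h3
      rw [Module.finrank_fin_fun, ← hqe] at hdim
      have h : (q - 1) * (q ^ 2 + q) * 2 ≤ k :=
        (le_add_right (Nat.mul_le_mul_left _ h2)).trans hdim.ge
      have hb : q ^ 3 + 1 ≤ (q - 1) * (q ^ 2 + q) * 2 := by
        subst ht
        rw [Nat.add_sub_cancel]
        nlinarith
      exact ⟨by omega, fun _ => hb.trans h⟩
  refine ⟨fun hm hq => (hnot3 (by omega) (by omega)).2 hm, fun hm hq => (hnot3 (by omega) ?_).1, fun hm hq => ?_⟩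
  · omega
  have h3 : (3 : F) = 0 := h3iff.2 hm
  have hq9 : 9 ≤ q := by
    have : Fact p.Prime := ⟨hpp⟩
    obtain rfl : p = 3 := (Nat.prime_dvd_prime_iff_eq hpp Nat.prime_three).1
      ((CharP.cast_eq_zero_iff F p 3).1 (by exact_mod_cast h3))
    rcases (show e = 1 ∨ 2 ≤ e by omega) with rfl | h
    · change q = 3 ^ 1 at hpe
      omega
    · have := Nat.pow_le_pow_right (show 0 < 3 by omega) h
      change q = 3 ^ e at hpe
      omega
  obtain ⟨r, hr⟩ : ∃ r, q ^ 2 = r + 1 := ⟨q ^ 2 - 1, (Nat.sub_add_cancel (Nat.one_le_pow _ _ (by omega))).symm⟩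
  have hdim := S.finrank_three h3
  rw [Module.finrank_fin_fun, ← hqe] at hdim
  have hr' : (q - 1) * (q + 1) = r := by
    obtain ⟨t, ht⟩ : ∃ t, q = t + 1 := ⟨q - 1, by omega⟩
    subst ht
    rw [Nat.add_sub_cancel]
    nlinarith
  rw [hr', hr, Nat.add_sub_cancel] at hdim
  have e4 : q ^ 4 + q ^ 2 + 1 = (r + 1) * (r + 1) + r + 2 := by
    rw [show q ^ 4 = q ^ 2 * q ^ 2 by ring, hr]; ring
  have hr80 : 80 ≤ r := by nlinarith
  have hk' : r * (S.mZero + r * S.mOne) ≤ k := (Nat.le_add_right _ _).trans hdim.ge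
  rcases (show S.mOne = 1 ∨ 2 ≤ S.mOne by
    have := S.mOne_ne_zero h3 (hqe ▸ hq9); omega) with h1 | h2
  swap
  · rw [e4]
    have := Nat.mul_le_mul_left r (Nat.le_trans (Nat.mul_le_mul_left r h2) (Nat.le_add_left _ S.mZero))
    nlinarith
  rcases (show S.mZero ≤ 3 ∨ 4 ≤ S.mZero by omega) with h0 | h4
  · rw [hqe]
    exact no_three ρ S rfl h3 (hqe ▸ hq9) h1 h0
  · rw [e4]
    have := Nat.mul_le_mul_left r h4
    rw [h1] at hk'
    nlinarith

end Cfsg.Agent.MinDegreeG2
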